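import Cfsg.Agent.H76.KJ.Basic_m3
import Cfsg.Agent.H682.KB.KMain_m3
import Cfsg.Agent.H994.KE.Base_m3
import Cfsg.Agent.H603.AP.Height
import Cfsg.Agent.S1093
import Cfsg.Agent.Lib.FinFast
import Cfsg.Agent.FastGrp
import Cfsg.Agent.Prune
set_option linter.all false
prune_inst 0x7f00000000000000000000000000000000000000000000000000000000000000000000000000000000000000000000000000000000000000000000000000000000000000000000000000000000000000003fffffffffffffffffffffffffffbeffbdffffffff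
open scoped Cfsg.Agent.FastGrp

-- part: H208/XR/TwoRank
section
/-!
# Rank two eigenspaces over `ℤ[x] / (x⁴ - P)` (S4791, S4927; helper208)

`q = Q` modulo `p ^ a` satisfies `q⁴ = P(q)`; `V₁`, `V₂` eigenvectors with entries in `ℤ[x] / (x⁴ - P)` which are dual to two
roots `s₁`, `s₂`.

* `okU` : a certificate for units; `lam_vv` : the values of `vv q B`;
* `le_card_Lam` : `p ^ (2 a) ≤ |Lam|`; `card_reg` : `p ^ (2 a) ≤ |LamReg| + |R| p ^ a`, `R` a list of the root kernels;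
* `card_Cth_le` : at most `n₁ n₂` elements of the Weyl group commute with `θ`.
-/

set_option autoImplicit false
set_option linter.unusedSectionVars false

namespace Cfsg.Agent.H208.XR

open CoxeterSystem Cfsg Cfsg.Lie Cfsg.Lie.ChevalleyDatum
open Cfsg.Agent.ChevalleyStructure Cfsg.Agent.ChevalleyStructure.Elts Cfsg.Agent.ChevalleyStructure.CoxeterGeom
  Cfsg.Agent.ChevalleyStructure.CoxeterGeomTypes Cfsg.Agent.ChevalleyStructure.NPerm
open Cfsg.Agent.Tits.Roots Cfsg.Agent.Tits.Core Cfsg.Agent.Nodes Cfsg.Agent.Nodes.Reps Cfsg.Agent.Nodes.BNOf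
  Cfsg.Agent.Nodes.RGDChev Cfsg.Agent.Nodes.Bruhat
open Cfsg.Agent.H129.TorusChar Cfsg.Agent.H129.WData Cfsg.Agent.H210.EL Cfsg.Agent.H440.TD4
open Cfsg.Agent.H682.KB (Q4 add4 sm4 mx mul4 ev ev_add ev_sm ev_mul ev_one ev_zero ev_int vv EigQ isUnit_ev ev_x)
open Cfsg.Agent.H994.KE (isRoot_rep' exists_perm)

universe u v

/-! ### arithmetic -/

/-- the value of a vector of quadruples -/
def dq {l : ℕ} (x : Fin l → ℤ) (B : List Q4) : Q4 :=
  (∑ n : Fin l, x n * (B.getD n (0, 0, 0, 0)).1, ∑ n : Fin l, x n * (B.getD n (0, 0, 0, 0)).2.1,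
    ∑ n : Fin l, x n * (B.getD n (0, 0, 0, 0)).2.2.1, ∑ n : Fin l, x n * (B.getD n (0, 0, 0, 0)).2.2.2)

theorem lam_vv {l N : ℕ} (q : ZMod N) (B : List Q4) (x : Fin l → ℤ) : lam (vv q B) x = ev q (dq x B) := by
  unfold lam vv dq ev
  push_cast
  rw [Finset.sum_mul, Finset.sum_mul, Finset.sum_mul, ← Finset.sum_add_distrib, ← Finset.sum_add_distrib,
    ← Finset.sum_add_distrib]
  refine Finset.sum_congr rfl fun n _ => ?_
  ring

/-- a conjugate: `c` the images of `x`, `x²`, `x³` -/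
def cj (c : Q4 × Q4 × Q4) (z : Q4) : Q4 :=
  add4 (z.1, 0, 0, 0) (add4 (sm4 z.2.1 c.1) (add4 (sm4 z.2.2.1 c.2.1) (sm4 z.2.2.2 c.2.2)))

/-- the product of the conjugates -/
def cof (P : Q4) (C : List (Q4 × Q4 × Q4)) (z : Q4) : Q4 := C.foldl (fun acc c => mul4 P acc (cj c z)) (1, 0, 0, 0)

/-- the norm is small -/
def okN (m : Q4) : Bool := decide (m.2 = (0, 0, 0)) && [1, 2, 4, 5, 8, 9, 16].contains m.1

/-- a certificate for units -/
def okU (P : Q4) (C : List (Q4 × Q4 × Q4)) (z : Q4) : Bool := okN (mul4 P (cof P C z) z)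

section units

variable {p a : ℕ} [hpp : Fact p.Prime]

theorem not_dvd_small {n : ℤ} (h7 : 7 ≤ p) (h : [1, 2, 4, 5, 8, 9, 16].contains n = true) : ¬ (p : ℤ) ∣ n := by
  have hp := hpp.out
  have key : ∀ m : ℕ, (∀ x ∈ m.primeFactorsList, x < 7) → m ≠ 0 → ¬ (p : ℤ) ∣ (m : ℤ) := by
    intro m hm hm0 hd
    have h1 : p ∣ m := by exact_mod_cast hd
    have h2 := hm p ((Nat.mem_primeFactorsList hm0).2 ⟨hp, h1⟩)
    omega
  have key2 : ∀ L : List ℕ, (∀ x ∈ L, x.Prime ∧ x < 7) → ¬ (p : ℤ) ∣ ((L.prod : ℕ) : ℤ) := by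
    intro L hL hd
    have h1 : p ∣ L.prod := by exact_mod_cast hd
    obtain ⟨x, hx, hxd⟩ := (Prime.dvd_prod_iff (Nat.prime_iff.1 hp)).1 h1
    have h2 := (Nat.prime_dvd_prime_iff_eq hp (hL x hx).1).1 hxd
    have h3 := (hL x hx).2
    omega
  have h2 : n = 1 ∨ n = 2 ∨ n = 4 ∨ n = 5 ∨ n = 8 ∨ n = 9 ∨ n = 16 := by
    simpa only [List.contains_eq_mem, List.mem_cons, List.not_mem_nil, or_false, Bool.decide_or, Bool.or_eq_true, decide_eq_true_eq] using h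
  rcases h2 with rfl | rfl | rfl | rfl | rfl | rfl | rfl
  · exact_mod_cast key2 [] (by simp)
  · exact_mod_cast key2 [2] (by norm_num)
  · exact_mod_cast key2 [2, 2] (by norm_num)
  · exact_mod_cast key2 [5] (by norm_num)
  · exact_mod_cast key2 [2, 2, 2] (by norm_num)
  · exact_mod_cast key2 [3, 3] (by norm_num)
  · exact_mod_cast key2 [2, 2, 2, 2] (by norm_num)

theorem isUnit_of_okU (ha : a ≠ 0) (h7 : 7 ≤ p) {q : ZMod (p ^ a)} {P : Q4} (hq : q ^ 4 = ev q P)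
    {C : List (Q4 × Q4 × Q4)} {z : Q4} (h : okU P C z = true) : IsUnit (ev q z) := by
  unfold okU okN at h
  rw [Bool.and_eq_true, decide_eq_true_iff] at h
  refine isUnit_ev ha hq (u := cof P C z) (C := z) (n := (mul4 P (cof P C z) z).1) ?_ (not_dvd_small h7 h.2)
  exact Prod.ext rfl h.1

end units

section model

variable {D : ChevalleyDatum} {l : ℕ} {M : CoxeterMatrix (Fin l)} {hp : IsType D l M} {p a Q : ℕ} [hpp : Fact p.Prime]
  {g : (Fin l → ℤ) ≃+ (Fin l → ℤ)} {w : M.Group}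

/-- eigenvectors -/
theorem vv_mem {N : ℕ} {W : Mat l} (hW : ∀ j, rep M.toCoxeterSystem hp.isCartan w (g (sr j)) = W j) {P : Q4}
    (hq : (Q : ZMod N) ^ 4 = ev (Q : ZMod N) P) {B : List Q4} (hB : EigQ P W (0, 1, 0, 0) B) :
    (vv (Q : ZMod N) B : Fin l → ZMod N) ∈ Lam hp N Q g w := by
  have h1 := hB.eigOK hq
  rw [ev_x] at h1
  intro x
  have h2 := ext_sr ((lamHom (vv (Q : ZMod N) B)).comp
      ((rep M.toCoxeterSystem hp.isCartan w).toAddMonoidHom.comp g.toAddMonoidHom))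
    ((AddMonoidHom.mulLeft (Q : ZMod N)).comp (lamHom (vv (Q : ZMod N) B))) (fun i => by
      show lam (vv (Q : ZMod N) B) (rep M.toCoxeterSystem hp.isCartan w (g (sr i))) =
        (Q : ZMod N) * lam (vv (Q : ZMod N) B) (sr i)
      rw [hW i, lam_sr]
      exact h1 i) x
  exact h2

/-- the combinations of two vectors -/
def cc {N : ℕ} (q : ZMod N) (V₁ V₂ : List Q4) (z : ZMod N × ZMod N) : Fin l → ZMod N :=
  z.1 • vv q V₁ + z.2 • vv q V₂

theorem lam_cc {N : ℕ} (q : ZMod N) (V₁ V₂ : List Q4) (z : ZMod N × ZMod N) (x : Fin l → ℤ) :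
    lam (cc q V₁ V₂ z) x = z.1 * ev q (dq x V₁) + z.2 * ev q (dq x V₂) := by
  unfold cc
  rw [lam_add', lam_smul', lam_smul', lam_vv, lam_vv]

/-- the data of a rank two eigenspace -/
structure Two (hp : IsType D l M) (g : (Fin l → ℤ) ≃+ (Fin l → ℤ)) (w : M.Group) (P : Q4) (V₁ V₂ : List Q4)
    (s₁ s₂ : Fin D.nroots) : Prop where
  W : ∃ W : Mat l, (∀ j, rep M.toCoxeterSystem hp.isCartan w (g (sr j)) = W j) ∧ EigQ P W (0, 1, 0, 0) V₁ ∧
    EigQ P W (0, 1, 0, 0) V₂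
  h11 : dq (vec D l s₁) V₁ = (1, 0, 0, 0)
  h12 : dq (vec D l s₁) V₂ = (0, 0, 0, 0)
  h21 : dq (vec D l s₂) V₁ = (0, 0, 0, 0)
  h22 : dq (vec D l s₂) V₂ = (1, 0, 0, 0)

variable {P : Q4} {V₁ V₂ : List Q4} {s₁ s₂ : Fin D.nroots} (T : Two hp g w P V₁ V₂ s₁ s₂)

include T in
theorem Two.cc_mem {N : ℕ} (hq : (Q : ZMod N) ^ 4 = ev (Q : ZMod N) P) (z : ZMod N × ZMod N) :
    cc (Q : ZMod N) V₁ V₂ z ∈ Lam hp N Q g w := by
  obtain ⟨W, hW, h1, h2⟩ := T.W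
  exact Lam.add hp (Lam.smul hp _ (vv_mem hW hq h1)) (Lam.smul hp _ (vv_mem hW hq h2))

include T in
theorem Two.cc_s1 {N : ℕ} (q : ZMod N) (z : ZMod N × ZMod N) : lam (cc q V₁ V₂ z) (vec D l s₁) = z.1 := by
  rw [lam_cc, T.h11, T.h12, ev_one, ev_zero]
  ring

include T in
theorem Two.cc_s2 {N : ℕ} (q : ZMod N) (z : ZMod N × ZMod N) : lam (cc q V₁ V₂ z) (vec D l s₂) = z.2 := by
  rw [lam_cc, T.h21, T.h22, ev_one, ev_zero]
  ring

include T in
theorem Two.cc_inj {N : ℕ} (q : ZMod N) : Function.Injective (cc q V₁ V₂ : ZMod N × ZMod N → Fin l → ZMod N) := by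
  intro z z' h
  refine Prod.ext ?_ ?_
  · rw [← T.cc_s1 q z, h, T.cc_s1]
  · rw [← T.cc_s2 q z, h, T.cc_s2]

include T in
theorem Two.le_card_Lam (hq : (Q : ZMod (p ^ a)) ^ 4 = ev (Q : ZMod (p ^ a)) P) :
    p ^ (2 * a) ≤ Nat.card ↥(Lam hp (p ^ a) Q g w) := by
  have hNz : NeZero (p ^ a) := ⟨pow_ne_zero _ hpp.out.ne_zero⟩
  have h1 := Nat.card_le_card_of_injective (fun z : ZMod (p ^ a) × ZMod (p ^ a) =>
    (⟨cc (Q : ZMod (p ^ a)) V₁ V₂ z, T.cc_mem hq z⟩ : ↥(Lam hp (p ^ a) Q g w))) (fun z z' h =>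
      T.cc_inj _ (congrArg Subtype.val h))
  rw [Nat.card_prod, Nat.card_eq_fintype_card, ZMod.card] at h1
  calc p ^ (2 * a) = p ^ a * p ^ a := by rw [← pow_add]; congr 1; ring
    _ ≤ _ := h1

include T in
/-- the elements of the eigenspace are determined by their values on the two roots -/
theorem Two.ext (hq : (Q : ZMod (p ^ a)) ^ 4 = ev (Q : ZMod (p ^ a)) P)
    (hL : Nat.card ↥(Lam hp (p ^ a) Q g w) = p ^ (2 * a)) {c c' : Fin l → ZMod (p ^ a)}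
    (hc : c ∈ Lam hp (p ^ a) Q g w) (hc' : c' ∈ Lam hp (p ^ a) Q g w)
    (h1 : lam c (vec D l s₁) = lam c' (vec D l s₁)) (h2 : lam c (vec D l s₂) = lam c' (vec D l s₂)) : c = c' := by
  classical
  have hNz : NeZero (p ^ a) := ⟨pow_ne_zero _ hpp.out.ne_zero⟩
  let F : ZMod (p ^ a) × ZMod (p ^ a) → ↥(Lam hp (p ^ a) Q g w) := fun z =>
    ⟨cc (Q : ZMod (p ^ a)) V₁ V₂ z, T.cc_mem hq z⟩
  have hF : Function.Injective F := fun z z' h => T.cc_inj _ (congrArg Subtype.val h)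
  have hFs : Function.Surjective F := by
    have hbij := (Nat.bijective_iff_injective_and_card F).2 ⟨hF, by
      rw [hL, Nat.card_prod, Nat.card_eq_fintype_card, ZMod.card, ← pow_add]
      congr 1
      ring⟩
    exact hbij.2
  obtain ⟨z, hz⟩ := hFs ⟨c, hc⟩
  obtain ⟨z', hz'⟩ := hFs ⟨c', hc'⟩
  have e1 : cc (Q : ZMod (p ^ a)) V₁ V₂ z = c := congrArg Subtype.val hz
  have e2 : cc (Q : ZMod (p ^ a)) V₁ V₂ z' = c' := congrArg Subtype.val hz'
  rw [← e1, ← e2]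
  congr 1
  refine Prod.ext ?_ ?_
  · rw [← T.cc_s1 (Q : ZMod (p ^ a)) z, e1, h1, ← e2, T.cc_s1]
  · rw [← T.cc_s2 (Q : ZMod (p ^ a)) z, e1, h2, ← e2, T.cc_s2]

/-- the solutions of a linear equation with one unit coefficient -/
theorem card_sol {N : ℕ} [NeZero N] {α β : ZMod N} (h : IsUnit α ∨ IsUnit β) :
    (Finset.univ.filter fun z : ZMod N × ZMod N => z.1 * α + z.2 * β = 0).card ≤ N := by
  classical
  conv_rhs => rw [← ZMod.card N, ← Finset.card_univ]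
  rcases h with h | h
  · refine Finset.card_le_card_of_injOn (fun z => z.2) (fun _ _ => Finset.mem_coe.2 (Finset.mem_univ _)) ?_
    intro z hz z' hz' e
    rw [Finset.mem_coe, Finset.mem_filter] at hz hz'
    have e' : z.2 = z'.2 := e
    refine Prod.ext ?_ e'
    apply h.mul_left_injective
    have h1 := hz.2
    have h2 := hz'.2
    show z.1 * α = z'.1 * α
    rw [e'] at h1
    linear_combination h1 - h2
  · refine Finset.card_le_card_of_injOn (fun z => z.1) (fun _ _ => Finset.mem_coe.2 (Finset.mem_univ _)) ?_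
    intro z hz z' hz' e
    rw [Finset.mem_coe, Finset.mem_filter] at hz hz'
    have e' : z.1 = z'.1 := e
    refine Prod.ext e' ?_
    apply h.mul_left_injective
    have h1 := hz.2
    have h2 := hz'.2
    show z.2 * β = z'.2 * β
    rw [e'] at h1
    linear_combination h1 - h2

include T in
/-- **The number of regular elements.** -/
theorem Two.card_reg (ha : a ≠ 0) (h7 : 7 ≤ p) (hq : (Q : ZMod (p ^ a)) ^ 4 = ev (Q : ZMod (p ^ a)) P)
    {C : List (Q4 × Q4 × Q4)} (R : List (Q4 × Q4))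
    (hR : ∀ s : Fin D.nroots, (okU P C (dq (vec D l s) V₁) = true ∨ okU P C (dq (vec D l s) V₂) = true) ∧
      ∃ ρ ∈ R, mul4 P (dq (vec D l s) V₁) ρ.2 = mul4 P (dq (vec D l s) V₂) ρ.1)
    (hRu : ∀ ρ ∈ R, okU P C ρ.1 = true ∨ okU P C ρ.2 = true) :
    p ^ (2 * a) ≤ Nat.card ↥(LamReg hp (p ^ a) Q g w) + R.length * p ^ a := by
  classical
  have hNz : NeZero (p ^ a) := ⟨pow_ne_zero _ hpp.out.ne_zero⟩
  set q : ZMod (p ^ a) := (Q : ZMod (p ^ a)) with hqdef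
  let Bad : Finset (ZMod (p ^ a) × ZMod (p ^ a)) := R.toFinset.biUnion fun ρ =>
    Finset.univ.filter fun z : ZMod (p ^ a) × ZMod (p ^ a) => z.1 * ev q ρ.1 + z.2 * ev q ρ.2 = 0
  have hBad : Bad.card ≤ R.length * p ^ a := by
    refine (Finset.card_biUnion_le).trans ?_
    calc ∑ ρ ∈ R.toFinset, _ ≤ ∑ _ρ ∈ R.toFinset, p ^ a := Finset.sum_le_sum fun ρ hρ =>
          card_sol (by
            rcases hRu ρ (List.mem_toFinset.1 hρ) with h | h
            · exact Or.inl (isUnit_of_okU ha h7 hq h)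
            · exact Or.inr (isUnit_of_okU ha h7 hq h))
      _ = R.toFinset.card * p ^ a := by rw [Finset.sum_const, smul_eq_mul]
      _ ≤ R.length * p ^ a := Nat.mul_le_mul_right _ (List.toFinset_card_le R)
  have hreg : ∀ z ∉ Bad, cc q V₁ V₂ z ∈ LamReg hp (p ^ a) Q g w := by
    intro z hz
    refine ⟨T.cc_mem hq z, fun s hs => hz ?_⟩
    rw [lam_cc] at hs
    obtain ⟨h1, ρ, hρ, h2⟩ := hR s
    have h3 := congrArg (ev q) h2
    rw [ev_mul hq, ev_mul hq] at h3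
    refine Finset.mem_biUnion.2 ⟨ρ, List.mem_toFinset.2 hρ, Finset.mem_filter.2 ⟨Finset.mem_univ _, ?_⟩⟩
    rcases h1 with h1 | h1
    · apply (isUnit_of_okU ha h7 hq h1).mul_left_cancel
      rw [mul_zero]
      linear_combination ev q ρ.1 * hs + z.2 * h3
    · apply (isUnit_of_okU ha h7 hq h1).mul_left_cancel
      rw [mul_zero]
      linear_combination ev q ρ.2 * hs - z.1 * h3
  have h1 : Badᶜ.card ≤ Nat.card ↥(LamReg hp (p ^ a) Q g w) := by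
    have h3 := Nat.card_le_card_of_injective (fun z : ↥(Badᶜ : Finset (ZMod (p ^ a) × ZMod (p ^ a))) =>
      (⟨cc q V₁ V₂ z.1, hreg z.1 (Finset.mem_compl.1 z.2)⟩ : ↥(LamReg hp (p ^ a) Q g w))) (fun z z' h =>
        Subtype.ext (T.cc_inj _ (congrArg Subtype.val h)))
    rwa [Nat.card_eq_fintype_card (α := ↥(Badᶜ : Finset (ZMod (p ^ a) × ZMod (p ^ a)))), Fintype.card_coe] at h3
  have h2 : Bad.card + Badᶜ.card = p ^ (2 * a) := by
    rw [Finset.card_add_card_compl, Fintype.card_prod, ZMod.card, ← pow_add]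
    congr 1
    ring
  omega

/-! ### the elements of the Weyl group which commute with `θ` -/

/-- the bilinear form of a matrix -/
def bil (B : Mat l) (x y : Fin l → ℤ) : ℤ := ∑ i, x i * ∑ m, B i m * y m

theorem bil_add_right (B : Mat l) (x y y' : Fin l → ℤ) : bil B x (y + y') = bil B x y + bil B x y' := by
  unfold bil
  rw [← Finset.sum_add_distrib]
  refine Finset.sum_congr rfl fun i _ => ?_
  rw [← mul_add, ← Finset.sum_add_distrib]
  congr 1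
  exact Finset.sum_congr rfl fun m _ => by rw [Pi.add_apply, mul_add]

/-- `bil B x` as an additive map -/
def bilHom (B : Mat l) (x : Fin l → ℤ) : (Fin l → ℤ) →+ ℤ where
  toFun := bil B x
  map_zero' := by
    unfold bil
    simp only [Pi.zero_apply, mul_zero, Finset.sum_const_zero]
  map_add' := bil_add_right B x

theorem bil_sr (B : Mat l) (x : Fin l → ℤ) (m : Fin l) : bil B x (sr m) = ∑ i, x i * B i m := by
  unfold bil
  refine Finset.sum_congr rfl fun i _ => ?_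
  rw [Finset.sum_eq_single m]
  · rw [sr_self, mul_one]
  · intro j _ hj
    rw [sr_ne hj, mul_zero]
  · intro h
    exact absurd (Finset.mem_univ m) h

/-- shifting by `θ` -/
theorem bil_theta {W : Mat l} (hW : ∀ j, rep M.toCoxeterSystem hp.isCartan w (g (sr j)) = W j) {B B' : Mat l}
    (hB : ∀ i m, B' i m = ∑ j, B i j * W m j) (x y : Fin l → ℤ) :
    bil B' x y = bil B x (rep M.toCoxeterSystem hp.isCartan w (g y)) := by
  have h1 := ext_sr (bilHom B' x) ((bilHom B x).comp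
      ((rep M.toCoxeterSystem hp.isCartan w).toAddMonoidHom.comp g.toAddMonoidHom)) (fun m => by
    show bil B' x (sr m) = bil B x (rep M.toCoxeterSystem hp.isCartan w (g (sr m)))
    rw [hW, bil_sr]
    unfold bil
    refine Finset.sum_congr rfl fun i _ => ?_
    rw [hB]) y
  exact h1

/-- the invariance -/
theorem bil_inv {W : Mat l} (hW : ∀ j, rep M.toCoxeterSystem hp.isCartan w (g (sr j)) = W j) {B : Fin 4 → Mat l}
    (h0 : ∀ (v : M.Group) (x y : Fin l → ℤ), bil (B 0) (rep M.toCoxeterSystem hp.isCartan v x)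
      (rep M.toCoxeterSystem hp.isCartan v y) = bil (B 0) x y)
    (hB : ∀ (k : Fin 3) (i m : Fin l), B k.succ i m = ∑ j, B k.castSucc i j * W m j) (k : Fin 4) {v : M.Group}
    (hv : v ∈ Cth hp g w) (x y : Fin l → ℤ) : bil (B k) (rep M.toCoxeterSystem hp.isCartan v x)
      (rep M.toCoxeterSystem hp.isCartan v y) = bil (B k) x y := by
  induction k using Fin.induction generalizing x y with
  | zero => exact h0 v x y
  | succ k ih => rw [bil_theta (hp := hp) hW (hB k), bil_theta (hp := hp) hW (hB k), ← hv y, ih]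

theorem Cth_mul {v v' : M.Group} (hv : v ∈ Cth hp g w) (hv' : v' ∈ Cth hp g w) : v * v' ∈ Cth hp g w := by
  intro x
  rw [rep_mul_apply, hv' x, hv, rep_mul_apply]

theorem Cth_inv {v : M.Group} (hv : v ∈ Cth hp g w) : v⁻¹ ∈ Cth hp g w := by
  intro x
  have h1 := hv (rep M.toCoxeterSystem hp.isCartan v⁻¹ x)
  rw [rep_apply_inv] at h1
  rw [← h1, rep_inv_apply]

variable {G : Type v} [Group G] {X : (Fin l → ZMod (p ^ a)) → G} (H : ModelN hp (p ^ a) Q g w X)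

include T H in
/-- an element of the Weyl group which commutes with `θ` and fixes two roots which determine the eigenspace -/
theorem Two.eq_one (hq : (Q : ZMod (p ^ a)) ^ 4 = ev (Q : ZMod (p ^ a)) P)
    (hL : Nat.card ↥(Lam hp (p ^ a) Q g w) = p ^ (2 * a)) (hreg : (LamReg hp (p ^ a) Q g w).Nonempty) {v : M.Group}
    (hv : v ∈ Cth hp g w) (h1 : rep M.toCoxeterSystem hp.isCartan v (vec D l s₁) = vec D l s₁)
    (h2 : rep M.toCoxeterSystem hp.isCartan v (vec D l s₂) = vec D l s₂) : v = 1 := by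
  obtain ⟨c₀, hc₀, hr⟩ := hreg
  let c₁ : Fin l → ZMod (p ^ a) := fun n => lam c₀ (rep M.toCoxeterSystem hp.isCartan v (sr n))
  have hc₁ : ∀ x, lam c₁ x = lam c₀ (rep M.toCoxeterSystem hp.isCartan v x) := by
    intro x
    exact ext_sr (lamHom c₁) ((lamHom c₀).comp (rep M.toCoxeterSystem hp.isCartan v).toAddMonoidHom) (fun n => by
      show lam c₁ (sr n) = lam c₀ (rep M.toCoxeterSystem hp.isCartan v (sr n))
      rw [lam_sr]) x
  have hm : c₁ ∈ Lam hp (p ^ a) Q g w := by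
    intro x
    rw [hc₁, hc₁, hv x, hc₀]
  have h3 : c₁ = c₀ := T.ext hq hL hm hc₀ (by rw [hc₁, h1]) (by rw [hc₁, h2])
  refine H.reg v c₀ hr fun x => ?_
  rw [← hc₁, h3]

include T H in
/-- **The number of the elements which commute with `θ`.** -/
theorem Two.card_Cth_le (hq : (Q : ZMod (p ^ a)) ^ 4 = ev (Q : ZMod (p ^ a)) P)
    (hL : Nat.card ↥(Lam hp (p ^ a) Q g w) = p ^ (2 * a)) (hreg : (LamReg hp (p ^ a) Q g w).Nonempty)
    {W : Mat l} (hW : ∀ j, rep M.toCoxeterSystem hp.isCartan w (g (sr j)) = W j) {B : Fin 4 → Mat l}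
    (h0 : ∀ (v : M.Group) (x y : Fin l → ℤ), bil (B 0) (rep M.toCoxeterSystem hp.isCartan v x)
      (rep M.toCoxeterSystem hp.isCartan v y) = bil (B 0) x y)
    (hB : ∀ (k : Fin 3) (i m : Fin l), B k.succ i m = ∑ j, B k.castSucc i j * W m j) {n₁ n₂ : ℕ}
    (hn1 : (Finset.univ.filter fun s : Fin D.nroots => ∀ k : Fin 4, bil (B k) (vec D l s) (vec D l s) =
      bil (B k) (vec D l s₁) (vec D l s₁)).card ≤ n₁)
    (hn2 : (Finset.univ.filter fun s : Fin D.nroots => ∀ k : Fin 4, bil (B k) (vec D l s) (vec D l s) =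
      bil (B k) (vec D l s₂) (vec D l s₂) ∧ bil (B k) (vec D l s) (vec D l s₁) =
      bil (B k) (vec D l s₂) (vec D l s₁)).card ≤ n₂) :
    Nat.card ↥(Cth hp g w) ≤ n₁ * n₂ := by
  classical
  have hWf := finite_W hp M.toCoxeterSystem
  choose π hπ using fun v : M.Group => exists_perm hp v
  set S₁ := Finset.univ.filter fun s : Fin D.nroots => ∀ k : Fin 4, bil (B k) (vec D l s) (vec D l s) =
      bil (B k) (vec D l s₁) (vec D l s₁) with hS1
  set S₂ := Finset.univ.filter fun s : Fin D.nroots => ∀ k : Fin 4, bil (B k) (vec D l s) (vec D l s) =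
      bil (B k) (vec D l s₂) (vec D l s₂) ∧ bil (B k) (vec D l s) (vec D l s₁) =
      bil (B k) (vec D l s₂) (vec D l s₁) with hS2
  have hinv := fun k v (hv : v ∈ Cth hp g w) x y => bil_inv hW h0 hB k (v := v) hv x y
  have m1 : ∀ v ∈ Cth hp g w, π v s₁ ∈ S₁ := by
    intro v hv
    rw [hS1, Finset.mem_filter]
    refine ⟨Finset.mem_univ _, fun k => ?_⟩
    rw [hπ, hinv k v hv]
  -- representatives
  have hu : ∀ s : Fin D.nroots, ∃ u : M.Group, (∃ v ∈ Cth hp g w, π v s₁ = s) → u ∈ Cth hp g w ∧ π u s₁ = s := by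
    intro s
    by_cases h : ∃ v ∈ Cth hp g w, π v s₁ = s
    · obtain ⟨v, hv, e⟩ := h
      exact ⟨v, fun _ => ⟨hv, e⟩⟩
    · exact ⟨1, fun h' => absurd h' h⟩
  choose u hu using hu
  have hu' : ∀ v ∈ Cth hp g w, u (π v s₁) ∈ Cth hp g w ∧ π (u (π v s₁)) s₁ = π v s₁ := fun v hv =>
    hu _ ⟨v, hv, rfl⟩
  have hfix : ∀ v ∈ Cth hp g w, rep M.toCoxeterSystem hp.isCartan ((u (π v s₁))⁻¹ * v) (vec D l s₁) = vec D l s₁ := by
    intro v hv
    rw [rep_mul_apply, ← hπ, ← (hu' v hv).2, hπ, (hu' v hv).2, rep_inv_apply]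
  have m2 : ∀ v ∈ Cth hp g w, π ((u (π v s₁))⁻¹ * v) s₂ ∈ S₂ := by
    intro v hv
    have hm := Cth_mul (Cth_inv (hu' v hv).1) hv
    rw [hS2, Finset.mem_filter]
    refine ⟨Finset.mem_univ _, fun k => ⟨?_, ?_⟩⟩
    · rw [hπ, hinv k _ hm]
    · rw [hπ]
      conv_lhs => rw [← hfix v hv]
      rw [hinv k _ hm]
  have key := Nat.card_le_card_of_injective (fun v : ↥(Cth hp g w) =>
    ((⟨π v.1 s₁, m1 v.1 v.2⟩, ⟨π ((u (π v.1 s₁))⁻¹ * v.1) s₂, m2 v.1 v.2⟩) : ↥S₁ × ↥S₂)) (by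
    rintro ⟨v, hv⟩ ⟨v', hv'⟩ h
    have e1 : π v s₁ = π v' s₁ := congrArg (fun z : ↥S₁ × ↥S₂ => z.1.1) h
    have e2 : π ((u (π v s₁))⁻¹ * v) s₂ = π ((u (π v' s₁))⁻¹ * v') s₂ := congrArg (fun z : ↥S₁ × ↥S₂ => z.2.1) h
    rw [← e1] at e2
    have f1 := hfix v hv
    have f2 := hfix v' hv'
    rw [← e1] at f2
    have h3 := congrArg (vec D l) (congrArg Fin.val e2)
    rw [hπ, hπ] at h3
    apply Subtype.ext
    show v = v'
    have h4 : v⁻¹ * v' = 1 := by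
      refine T.eq_one H hq hL hreg (Cth_mul (Cth_inv hv) hv') ?_ ?_
      · have h5 : v⁻¹ * v' = ((u (π v s₁))⁻¹ * v)⁻¹ * ((u (π v s₁))⁻¹ * v') := by group
        rw [h5, rep_mul_apply, f2]
        conv_lhs => rw [← f1]
        rw [rep_inv_apply]
      · have h5 : v⁻¹ * v' = ((u (π v s₁))⁻¹ * v)⁻¹ * ((u (π v s₁))⁻¹ * v') := by group
        rw [h5, rep_mul_apply, ← h3, rep_inv_apply]
    exact (inv_mul_eq_one.1 h4))
  rw [Nat.card_prod, Nat.card_eq_fintype_card (α := ↥S₁), Nat.card_eq_fintype_card (α := ↥S₂), Fintype.card_coe,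
    Fintype.card_coe] at key
  exact key.trans (Nat.mul_le_mul hn1 hn2)

end model

end Cfsg.Agent.H208.XR
end

-- part: H208/XR/Down
section
/-!
# The elements of order `p` of the torus model modulo `p ^ a` (S4791, S4927; helper208)

* `up` : functionals modulo `p` as functionals modulo `p ^ a`; `ModelN.down` : the model modulo `p`;
* `X_up_red` : `X (up c) = X c ^ p ^ (a - 1)`;
* `ms_of_conj` : conjugate elements have the same root values; `not_conj_of_card` ;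
* `rank_line` : the rank of the principal block of the centralizer of an element of order `p`;
* `x0_eq_kJ_of_two` : heights.
-/

set_option autoImplicit false
set_option linter.unusedSectionVars false

namespace Cfsg.Agent.H208.XR

open CoxeterSystem Cfsg Cfsg.Lie Cfsg.Lie.ChevalleyDatum
open Cfsg.Agent.ChevalleyStructure Cfsg.Agent.ChevalleyStructure.Elts Cfsg.Agent.ChevalleyStructure.CoxeterGeom
  Cfsg.Agent.ChevalleyStructure.CoxeterGeomTypes Cfsg.Agent.ChevalleyStructure.NPerm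
open Cfsg.Agent.Tits.Roots Cfsg.Agent.Tits.Core Cfsg.Agent.Nodes Cfsg.Agent.Nodes.Reps Cfsg.Agent.Nodes.BNOf
  Cfsg.Agent.Nodes.RGDChev Cfsg.Agent.Nodes.Bruhat
open Cfsg.Agent.H129.TorusChar Cfsg.Agent.H129.WData Cfsg.Agent.H210.EL Cfsg.Agent.H440.TD4
open Cfsg.Agent.H682.KB (Q4 add4 sm4 mx mul4 ev ev_add ev_sm ev_mul ev_one ev_zero ev_int vv EigQ isUnit_ev ev_x Pr)
open Cfsg.Agent.H994.KE (isRoot_rep' exists_perm)
open Cfsg.Agent.H944.RootVals (ms)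
open Cfsg.Agent.H674.XZ Cfsg.Agent.H508.XR

universe u v

section up

variable {p a l : ℕ} [hpp : Fact p.Prime]

theorem pow_mul_eq_zero (ha : a ≠ 0) (m : ℤ) :
    ((p ^ (a - 1) : ℕ) : ZMod (p ^ a)) * (m : ZMod (p ^ a)) = 0 ↔ (m : ZMod (p ^ 1)) = 0 := by
  have h1 : ((p ^ (a - 1) : ℕ) : ZMod (p ^ a)) * (m : ZMod (p ^ a)) = (((p : ℤ) ^ (a - 1) * m : ℤ) : ZMod (p ^ a)) := by
    push_cast
    rfl
  rw [h1, ZMod.intCast_zmod_eq_zero_iff_dvd, ZMod.intCast_zmod_eq_zero_iff_dvd]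
  have h2 : ((p ^ a : ℕ) : ℤ) = (p : ℤ) ^ (a - 1) * ((p ^ 1 : ℕ) : ℤ) := by
    push_cast
    rw [pow_one, ← pow_succ, Nat.sub_add_cancel (Nat.one_le_iff_ne_zero.2 ha)]
  rw [h2]
  exact mul_dvd_mul_iff_left (pow_ne_zero _ (by exact_mod_cast hpp.out.ne_zero))

/-- functionals modulo `p` as functionals modulo `p ^ a` -/
def up (p a : ℕ) (c : Fin l → ZMod (p ^ 1)) : Fin l → ZMod (p ^ a) :=
  fun n => ((p ^ (a - 1) : ℕ) : ZMod (p ^ a)) * (((c n).val : ℤ) : ZMod (p ^ a))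

/-- reduction modulo `p` -/
def red (p a : ℕ) (ha : a ≠ 0) (c : Fin l → ZMod (p ^ a)) : Fin l → ZMod (p ^ 1) :=
  fun n => ZMod.castHom (pow_dvd_pow p (Nat.one_le_iff_ne_zero.2 ha)) (ZMod (p ^ 1)) (c n)

theorem lam_up (c : Fin l → ZMod (p ^ 1)) (x : Fin l → ℤ) :
    lam (up p a c) x = ((p ^ (a - 1) : ℕ) : ZMod (p ^ a)) * ((∑ n, x n * ((c n).val : ℤ) : ℤ) : ZMod (p ^ a)) := by
  unfold lam up
  rw [Int.cast_sum, Finset.mul_sum]
  refine Finset.sum_congr rfl fun n _ => ?_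
  push_cast
  ring

theorem lam_val (c : Fin l → ZMod (p ^ 1)) (x : Fin l → ℤ) :
    lam c x = ((∑ n, x n * ((c n).val : ℤ) : ℤ) : ZMod (p ^ 1)) := by
  have hNz : NeZero (p ^ 1) := ⟨pow_ne_zero _ hpp.out.ne_zero⟩
  unfold lam
  rw [Int.cast_sum]
  refine Finset.sum_congr rfl fun n _ => ?_
  push_cast
  rw [ZMod.natCast_zmod_val]

/-- relations between values -/
theorem lam_up_iff (ha : a ≠ 0) (k : ℕ) (c c' : Fin l → ZMod (p ^ 1)) (x x' : Fin l → ℤ) :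
    lam (up p a c) x = (k : ZMod (p ^ a)) * lam (up p a c') x' ↔ lam c x = (k : ZMod (p ^ 1)) * lam c' x' := by
  rw [lam_up, lam_up, lam_val, lam_val, ← sub_eq_zero]
  conv_rhs => rw [← sub_eq_zero]
  have h := pow_mul_eq_zero (p := p) ha
    ((∑ n, x n * ((c n).val : ℤ) : ℤ) - (k : ℤ) * (∑ n, x' n * ((c' n).val : ℤ) : ℤ))
  rw [show ((p ^ (a - 1) : ℕ) : ZMod (p ^ a)) * ((∑ n, x n * ((c n).val : ℤ) : ℤ) : ZMod (p ^ a)) -
      (k : ZMod (p ^ a)) * (((p ^ (a - 1) : ℕ) : ZMod (p ^ a)) * ((∑ n, x' n * ((c' n).val : ℤ) : ℤ) : ZMod (p ^ a))) =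
      ((p ^ (a - 1) : ℕ) : ZMod (p ^ a)) * (((∑ n, x n * ((c n).val : ℤ) : ℤ) -
        (k : ℤ) * (∑ n, x' n * ((c' n).val : ℤ) : ℤ) : ℤ) : ZMod (p ^ a)) by push_cast; ring, h]
  push_cast
  rfl

theorem lam_up_eq_iff (ha : a ≠ 0) (c c' : Fin l → ZMod (p ^ 1)) (x x' : Fin l → ℤ) :
    lam (up p a c) x = lam (up p a c') x' ↔ lam c x = lam c' x' := by
  have h := lam_up_iff ha 1 c c' x x'
  rwa [Nat.cast_one, one_mul, Nat.cast_one, one_mul] at h

theorem lam_up_eq_zero (ha : a ≠ 0) (c : Fin l → ZMod (p ^ 1)) (x : Fin l → ℤ) :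
    lam (up p a c) x = 0 ↔ lam c x = 0 := by
  have h := lam_up_iff ha 0 c c x x
  rwa [Nat.cast_zero, zero_mul, Nat.cast_zero, zero_mul] at h

theorem up_add (ha : a ≠ 0) (c c' : Fin l → ZMod (p ^ 1)) : up p a (c + c') = up p a c + up p a c' := by
  have hNz : NeZero (p ^ 1) := ⟨pow_ne_zero _ hpp.out.ne_zero⟩
  funext n
  unfold up
  rw [Pi.add_apply, ← sub_eq_zero]
  have h := (pow_mul_eq_zero (p := p) ha (((c n + c' n).val : ℤ) - ((c n).val : ℤ) - ((c' n).val : ℤ))).2 (by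
    push_cast
    rw [ZMod.natCast_zmod_val, ZMod.natCast_zmod_val, ZMod.natCast_zmod_val]
    ring)
  rw [← h, Pi.add_apply]
  push_cast
  ring

theorem up_eq_zero (ha : a ≠ 0) {c : Fin l → ZMod (p ^ 1)} (h : up p a c = 0) : c = 0 := by
  have hNz : NeZero (p ^ 1) := ⟨pow_ne_zero _ hpp.out.ne_zero⟩
  funext n
  have h1 := (pow_mul_eq_zero (p := p) ha ((c n).val : ℤ)).1 (congrFun h n)
  rw [Int.cast_natCast, ZMod.natCast_zmod_val] at h1
  exact h1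

theorem up_red (ha : a ≠ 0) (c : Fin l → ZMod (p ^ a)) :
    up p a (red p a ha c) = ((p ^ (a - 1) : ℕ) : ZMod (p ^ a)) • c := by
  have hNz : NeZero (p ^ 1) := ⟨pow_ne_zero _ hpp.out.ne_zero⟩
  have hNz' : NeZero (p ^ a) := ⟨pow_ne_zero _ hpp.out.ne_zero⟩
  funext n
  unfold up red
  rw [Pi.smul_apply, smul_eq_mul, ← sub_eq_zero]
  have h := (pow_mul_eq_zero (p := p) ha (((ZMod.castHom (pow_dvd_pow p (Nat.one_le_iff_ne_zero.2 ha)) (ZMod (p ^ 1))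
    (c n)).val : ℤ) - ((c n).val : ℤ))).2 (by
    push_cast
    rw [ZMod.natCast_zmod_val]
    conv_lhs => arg 1; rw [← ZMod.natCast_zmod_val (c n), map_natCast]
    rw [sub_self])
  rw [← h]
  push_cast
  rw [ZMod.natCast_zmod_val (c n)]
  ring

theorem red_vv (ha : a ≠ 0) (Q : ℕ) (B : List Q4) :
    red p a ha (vv (Q : ZMod (p ^ a)) B : Fin l → ZMod (p ^ a)) = vv (Q : ZMod (p ^ 1)) B := by
  funext n
  unfold red vv ev
  simp only [map_add, map_mul, map_pow, map_intCast, map_natCast]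

end up

section model

variable {D : ChevalleyDatum} {l : ℕ} {M : CoxeterMatrix (Fin l)} {hp : IsType D l M} {p a Q : ℕ} [hpp : Fact p.Prime]
  {g : (Fin l → ℤ) ≃+ (Fin l → ℤ)} {w : M.Group} {G : Type v} [Group G] {X : (Fin l → ZMod (p ^ a)) → G}

theorem up_mem_iff (ha : a ≠ 0) {c : Fin l → ZMod (p ^ 1)} : up p a c ∈ Lam hp (p ^ a) Q g w ↔ c ∈ Lam hp (p ^ 1) Q g w :=
  forall_congr' fun x => lam_up_iff ha Q c c _ _

/-- **The model modulo `p`.** -/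
theorem ModelN.down (ha : a ≠ 0) (H : ModelN hp (p ^ a) Q g w X) :
    ModelN hp (p ^ 1) Q g w (fun c => X (up p a c)) where
  add c hc c' hc' := by
    rw [up_add ha]
    exact H.add _ ((up_mem_iff ha).2 hc) _ ((up_mem_iff ha).2 hc')
  inj c hc h := up_eq_zero ha (H.inj _ ((up_mem_iff ha).2 hc) h)
  act v hv := by
    obtain ⟨m, hm⟩ := H.act v hv
    exact ⟨m, fun c hc c' hc' h => hm _ ((up_mem_iff ha).2 hc) _ ((up_mem_iff ha).2 hc') fun x =>
      (lam_up_eq_iff ha _ _ _ _).2 (h x)⟩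
  fus c c' hc hc' h hh := by
    obtain ⟨w', hw'⟩ := H.fus (fun i => up p a (c i)) (fun i => up p a (c' i)) (fun i => (up_mem_iff ha).2 (hc i))
      (fun i => (up_mem_iff ha).2 (hc' i)) h hh
    exact ⟨w', fun i x => (lam_up_eq_iff ha _ _ _ _).1 (hw' i x)⟩
  reg w' c hc h := H.reg w' (up p a c) (fun s hs => hc s ((lam_up_eq_zero ha _ _).1 hs)) fun x =>
    (lam_up_eq_iff ha _ _ _ _).2 (h x)
  cen c hc c' hc' h k hk := H.cen _ ((up_mem_iff ha).2 hc) _ ((up_mem_iff ha).2 hc') (fun s hs =>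
    (lam_up_eq_zero ha _ _).2 (h s ((lam_up_eq_zero ha _ _).1 hs))) k hk
  tw := H.tw

/-- transport to an isomorphic group -/
theorem ModelN.map {G' : Type*} [Group G'] (f : G ≃* G') (H : ModelN hp (p ^ a) Q g w X) :
    ModelN hp (p ^ a) Q g w (fun c => f (X c)) where
  add c hc c' hc' := by rw [H.add c hc c' hc', map_mul]
  inj c hc h := H.inj c hc (by rwa [map_eq_one_iff f f.injective] at h)
  act v hv := by
    obtain ⟨m, hm⟩ := H.act v hv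
    exact ⟨f m, fun c hc c' hc' h => by rw [← map_inv, ← map_mul, ← map_mul, hm c hc c' hc' h]⟩
  fus c c' hc hc' h hh := H.fus c c' hc hc' (f.symm h) fun i => by
    apply f.injective
    rw [map_mul, map_mul, map_inv, f.apply_symm_apply, hh i]
  reg := H.reg
  cen c hc c' hc' h k hk := by
    have h1 := H.cen c hc c' hc' h (f.symm k) (by
      apply f.injective
      rw [map_mul, map_mul, f.apply_symm_apply, hk])
    have h2 := congrArg f h1
    rwa [map_mul, map_mul, f.apply_symm_apply] at h2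
  tw := H.tw

variable (H : ModelN hp (p ^ a) Q g w X)

include H in
theorem X_up_red (ha : a ≠ 0) {c : Fin l → ZMod (p ^ a)} (hc : c ∈ Lam hp (p ^ a) Q g w) :
    X (up p a (red p a ha c)) = X c ^ p ^ (a - 1) := by
  rw [up_red ha, X_nsmul H hc]

theorem red_mem (ha : a ≠ 0) {c : Fin l → ZMod (p ^ a)} (hc : c ∈ Lam hp (p ^ a) Q g w) :
    red p a ha c ∈ Lam hp (p ^ 1) Q g w := by
  rw [← up_mem_iff (a := a) ha, up_red ha]
  exact Lam.smul hp _ hc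

include H in
/-- the order of an element with a root value (or coordinate) which is a unit -/
theorem orderOf_X {c : Fin l → ZMod (p ^ a)} (hc : c ∈ Lam hp (p ^ a) Q g w) {x : Fin l → ℤ} (hx : IsUnit (lam c x)) :
    orderOf (X c) = p ^ a := by
  apply Nat.dvd_antisymm
  · apply orderOf_dvd_of_pow_eq_one
    rw [← X_nsmul H hc, ZMod.natCast_self, zero_smul, X_zero H]
  · have h1 := pow_orderOf_eq_one (X c)
    rw [← X_nsmul H hc] at h1
    have h2 := H.inj _ (Lam.smul hp _ hc) h1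
    have h3 : lam (((orderOf (X c) : ℕ) : ZMod (p ^ a)) • c) x = 0 := by
      rw [h2]
      unfold lam
      simp only [Pi.zero_apply, mul_zero, Finset.sum_const_zero]
    rw [lam_smul'] at h3
    exact (ZMod.natCast_eq_zero_iff _ _).1 ((hx.mul_left_eq_zero).1 h3)

include H in
/-- conjugate elements have the same root values -/
theorem exists_of_conj {c c' : Fin l → ZMod (p ^ a)} (hc : c ∈ Lam hp (p ^ a) Q g w) (hc' : c' ∈ Lam hp (p ^ a) Q g w)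
    (h : IsConj (X c) (X c')) : ∃ π : Equiv.Perm (Fin D.nroots), ∀ s, lam c' (vec D l (π s)) = lam c (vec D l s) := by
  obtain ⟨k, hk⟩ := isConj_iff.1 h
  obtain ⟨w', hw'⟩ := H.fus (ι := Unit) (fun _ => c) (fun _ => c') (fun _ => hc) (fun _ => hc') k (fun _ => hk)
  obtain ⟨π, hπ⟩ := exists_perm hp w'
  exact ⟨π, fun s => by rw [hπ, hw' ()]⟩

include H in
theorem ms_of_conj {c c' : Fin l → ZMod (p ^ a)} (hc : c ∈ Lam hp (p ^ a) Q g w) (hc' : c' ∈ Lam hp (p ^ a) Q g w)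
    (h : IsConj (X c) (X c')) : ms D l c = ms D l c' := by
  obtain ⟨π, hπ⟩ := exists_of_conj H hc hc' h
  unfold ms
  have h1 : ∀ (c : Fin l → ZMod (p ^ a)) (s : Fin D.nroots), (∑ i, ((vec D l s i : ℤ) : ZMod (p ^ a)) * c i) =
      lam c (vec D l s) := fun c s => rfl
  have h2 : Multiset.map (fun s : Fin D.nroots => lam c (vec D l s)) Finset.univ.val =
      Multiset.map (fun s : Fin D.nroots => lam c' (vec D l s)) Finset.univ.val := by
    have h3 : (fun s : Fin D.nroots => lam c (vec D l s)) = (fun s : Fin D.nroots => lam c' (vec D l s)) ∘ π := by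
      funext s
      exact (hπ s).symm
    rw [h3, ← Multiset.map_map]
    congr 1
    have h4 := congrArg Finset.val (Finset.map_univ_equiv π)
    rwa [Finset.map_val] at h4
  exact h2

include H in
/-- elements with different numbers of trivial roots are not conjugate -/
theorem not_conj_of_card {c c' : Fin l → ZMod (p ^ a)} (hc : c ∈ Lam hp (p ^ a) Q g w)
    (hc' : c' ∈ Lam hp (p ^ a) Q g w) {n : ℕ} (h1 : (Finset.univ.filter fun s : Fin D.nroots => lam c (vec D l s) = 0).card ≤ n)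
    (h2 : n < (Finset.univ.filter fun s : Fin D.nroots => lam c' (vec D l s) = 0).card) : ¬ IsConj (X c) (X c') := by
  intro h
  obtain ⟨π, hπ⟩ := exists_of_conj H hc hc' h
  have h3 : (Finset.univ.filter fun s : Fin D.nroots => lam c' (vec D l s) = 0).card ≤
      (Finset.univ.filter fun s : Fin D.nroots => lam c (vec D l s) = 0).card := by
    refine Finset.card_le_card_of_injOn (fun s => π.symm s) ?_ (fun _ _ _ _ h => π.symm.injective h)
    intro s hs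
    rw [Finset.mem_coe, Finset.mem_filter] at hs ⊢
    refine ⟨Finset.mem_univ _, ?_⟩
    show lam c (vec D l (π.symm s)) = 0
    rw [← hπ, π.apply_symm_apply]
    exact hs.2
  omega

end model

end Cfsg.Agent.H208.XR
end

-- part: H208/XR/Line
section
/-!
# Lines of the torus model, and heights (S4791, S4927; helper208)

* `bil_rep` : the Cartan form is invariant;
* `x0_eq_kJ_of_two` : `x₀ = k_J` in rank two;
* `Ln` : an element `x` of order `p`, `x ~ xⁱ → iᵉ = 1`, `b ≤ l(B₀(C(x)))`; `exists_line` ;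
* `kJ_of_line_reg`, `kJ_of_line_add`, `kJ_of_lines` : lower bounds for `k_J`.
-/

set_option autoImplicit false
set_option linter.unusedSectionVars false

namespace Cfsg.Agent.H208.XR

open CoxeterSystem Cfsg Cfsg.Lie Cfsg.Lie.ChevalleyDatum
open Cfsg.Agent.ChevalleyStructure Cfsg.Agent.ChevalleyStructure.Elts Cfsg.Agent.ChevalleyStructure.CoxeterGeom
  Cfsg.Agent.ChevalleyStructure.CoxeterGeomTypes Cfsg.Agent.ChevalleyStructure.NPerm
open Cfsg.Agent.Tits.Roots Cfsg.Agent.Tits.Core Cfsg.Agent.Nodes Cfsg.Agent.Nodes.Reps Cfsg.Agent.Nodes.BNOf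
  Cfsg.Agent.Nodes.RGDChev Cfsg.Agent.Nodes.Bruhat
open Cfsg.Agent.H129.TorusChar Cfsg.Agent.H129.WData Cfsg.Agent.H210.EL Cfsg.Agent.H440.TD4
open Cfsg.Agent.H682.KB (Q4 add4 sm4 mx mul4 ev ev_add ev_sm ev_mul ev_one ev_zero ev_int vv EigQ isUnit_ev ev_x Pr)
open Cfsg.Agent.H994.KE (isRoot_rep' exists_perm)
open Cfsg.Agent.H944.RootVals (ms)
open Cfsg.Agent.H674.XZ Cfsg.Agent.H508.XR

universe u v

section form

variable {l : ℕ}

theorem bil_comm {A : Mat l} (hA : ∀ i j, A i j = A j i) (x y : Fin l → ℤ) : bil A x y = bil A y x := by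
  unfold bil
  simp only [Finset.mul_sum]
  rw [Finset.sum_comm]
  refine Finset.sum_congr rfl fun i _ => Finset.sum_congr rfl fun j _ => ?_
  rw [hA]
  ring

theorem bil_smul_left (A : Mat l) (c : ℤ) (x y : Fin l → ℤ) : bil A (c • x) y = c * bil A x y := by
  unfold bil
  rw [Finset.mul_sum]
  exact Finset.sum_congr rfl fun i _ => by rw [Pi.smul_apply, smul_eq_mul, mul_assoc]

theorem bil_sub_left (A : Mat l) (x x' y : Fin l → ℤ) : bil A (x - x') y = bil A x y - bil A x' y := by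
  unfold bil
  rw [← Finset.sum_sub_distrib]
  exact Finset.sum_congr rfl fun i _ => by rw [Pi.sub_apply, sub_mul]

theorem bil_sr_left (A : Mat l) (i : Fin l) (y : Fin l → ℤ) : bil A (sr i) y = pairing A i y := by
  unfold bil sr
  rw [Finset.sum_eq_single i]
  · rw [Pi.single_eq_same, one_mul]
    rfl
  · intro j _ hj
    rw [Pi.single_eq_of_ne hj, zero_mul]
  · intro h
    exact absurd (Finset.mem_univ i) h

theorem bil_refl {A : Mat l} (hA : ∀ i j, A i j = A j i) (h2 : ∀ i, A i i = 2) (i : Fin l) (x y : Fin l → ℤ) :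
    bil A (refl A i x) (refl A i y) = bil A x y := by
  have e1 : ∀ z : Fin l → ℤ, refl A i z = z - pairing A i z • sr i := fun z => by
    rw [refl_apply, single_eq_smul]
    rfl
  have e2 : bil A (sr i) (sr i) = 2 := by
    rw [bil_sr_left]
    unfold pairing sr
    rw [Finset.sum_eq_single i]
    · rw [Pi.single_eq_same, mul_one, h2]
    · intro j _ hj
      rw [Pi.single_eq_of_ne hj, mul_zero]
    · intro h
      exact absurd (Finset.mem_univ i) h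
  rw [e1, e1, bil_sub_left, bil_smul_left, bil_comm hA x, bil_sub_left, bil_smul_left, bil_sr_left,
    bil_comm hA (sr i), bil_sub_left, bil_smul_left, e2, bil_comm hA y, bil_comm hA y (sr i), bil_sr_left]
  ring

variable {D : ChevalleyDatum} {M : CoxeterMatrix (Fin l)} (hp : IsType D l M)

theorem bil_rep {A : Mat l} (hA : ∀ i j, A i j = cartanOf D l i j) (hs : ∀ i j, A i j = A j i) (h2 : ∀ i, A i i = 2)
    (v : M.Group) (x y : Fin l → ℤ) :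
    bil A (rep M.toCoxeterSystem hp.isCartan v x) (rep M.toCoxeterSystem hp.isCartan v y) = bil A x y := by
  have e : A = cartanOf D l := funext fun i => funext fun j => hA i j
  subst e
  induction v using M.toCoxeterSystem.simple_induction_left generalizing x y with
  | one => rw [map_one]; rfl
  | mul_simple_left w i ih =>
    rw [rep_mul_apply, rep_mul_apply, rep_simple, bil_refl hs h2, ih]

/-- commuting elements of the Weyl group from a check of matrices -/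
theorem Cth_of_comm {A : Mat l} (hA : ∀ i j, A i j = cartanOf D l i j)
    {Cw Cv : List (Fin l × Mat l)} (hw : ChainOK A Cw) (hv : ChainOK A Cv) (hc : CommOK (hd Cv) (hd Cw)) :
    M.toCoxeterSystem.wordProd (Cv.map Prod.fst) ∈
      Cth hp (AddEquiv.refl (Fin l → ℤ)) (M.toCoxeterSystem.wordProd (Cw.map Prod.fst)) := by
  have hwr := chain_rep hp M.toCoxeterSystem hA hw
  have hvr := chain_rep hp M.toCoxeterSystem hA hv
  set w : M.Group := M.toCoxeterSystem.wordProd (Cw.map Prod.fst) with hwdef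
  set v : M.Group := M.toCoxeterSystem.wordProd (Cv.map Prod.fst) with hvdef
  have h1 := ext_sr ((rep M.toCoxeterSystem hp.isCartan v).toAddMonoidHom.comp
      (rep M.toCoxeterSystem hp.isCartan w).toAddMonoidHom)
    ((rep M.toCoxeterSystem hp.isCartan w).toAddMonoidHom.comp
      (rep M.toCoxeterSystem hp.isCartan v).toAddMonoidHom) (fun j => by
        show rep M.toCoxeterSystem hp.isCartan v (rep M.toCoxeterSystem hp.isCartan w (sr j)) =
          rep M.toCoxeterSystem hp.isCartan w (rep M.toCoxeterSystem hp.isCartan v (sr j))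
        funext m
        rw [H795.TorsData.rep_of_sr hp M.toCoxeterSystem hvr, H795.TorsData.rep_of_sr hp M.toCoxeterSystem hwr,
          hwr, hvr]
        exact (hc j m).symm)
  exact h1

/-- values of eigenvectors -/
theorem lam_rep_vv {A : Mat l} (hA : ∀ i j, A i j = cartanOf D l i j) {Cv : List (Fin l × Mat l)} (hv : ChainOK A Cv)
    {N Q : ℕ} {P s : Q4} (hq : (Q : ZMod N) ^ 4 = ev (Q : ZMod N) P) {B : List Q4} (hB : EigQ P (hd Cv) s B)
    (x : Fin l → ℤ) :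
    lam (vv (Q : ZMod N) B) (rep M.toCoxeterSystem hp.isCartan (M.toCoxeterSystem.wordProd (Cv.map Prod.fst)) x) =
      ev (Q : ZMod N) s * lam (vv (Q : ZMod N) B) x := by
  have hvr := chain_rep hp M.toCoxeterSystem hA hv
  have h1 := hB.eigOK hq
  exact ext_sr ((lamHom (vv (Q : ZMod N) B)).comp
      (rep M.toCoxeterSystem hp.isCartan (M.toCoxeterSystem.wordProd (Cv.map Prod.fst))).toAddMonoidHom)
    ((AddMonoidHom.mulLeft (ev (Q : ZMod N) s)).comp (lamHom (vv (Q : ZMod N) B))) (fun i => by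
      show lam (vv (Q : ZMod N) B) (rep M.toCoxeterSystem hp.isCartan
          (M.toCoxeterSystem.wordProd (Cv.map Prod.fst)) (sr i)) =
        ev (Q : ZMod N) s * lam (vv (Q : ZMod N) B) (sr i)
      rw [hvr i, lam_sr]
      exact h1 i) x

end form

section model

variable {D : ChevalleyDatum} {l : ℕ} {M : CoxeterMatrix (Fin l)} {hp : IsType D l M} {p a Q : ℕ} [hpp : Fact p.Prime]
  {g : (Fin l → ℤ) ≃+ (Fin l → ℤ)} {w : M.Group} {G : Type u} [Group G] {X : (Fin l → ZMod (p ^ a)) → G}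
  (H : ModelN hp (p ^ a) Q g w X) {Mx : Ideal AlgInt}

include H in
/-- **Heights.** -/
theorem x0_eq_kJ_of_two [Finite G] (hM : IsPModular p Mx) (ha : a ≠ 0) (h7 : 7 ≤ p)
    (hG : ¬ p ^ (2 * a + 1) ∣ Nat.card G) {P : Q4} {V₁ V₂ : List Q4} {s₁ s₂ : Fin D.nroots}
    (T : Two hp g w P V₁ V₂ s₁ s₂) (hq : (Q : ZMod (p ^ a)) ^ 4 = ev (Q : ZMod (p ^ a)) P)
    {C : List (Q4 × Q4 × Q4)} {R : List (Q4 × Q4)}
    (hR : ∀ s : Fin D.nroots, (okU P C (dq (vec D l s) V₁) = true ∨ okU P C (dq (vec D l s) V₂) = true) ∧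
      ∃ ρ ∈ R, mul4 P (dq (vec D l s) V₁) ρ.2 = mul4 P (dq (vec D l s) V₂) ρ.1)
    (hRu : ∀ ρ ∈ R, okU P C ρ.1 = true ∨ okU P C ρ.2 = true)
    {W : Mat l} (hW : ∀ j, rep M.toCoxeterSystem hp.isCartan w (g (sr j)) = W j) {B : Fin 4 → Mat l}
    (h0 : ∀ (v : M.Group) (x y : Fin l → ℤ), bil (B 0) (rep M.toCoxeterSystem hp.isCartan v x)
      (rep M.toCoxeterSystem hp.isCartan v y) = bil (B 0) x y)
    (hB : ∀ (k : Fin 3) (i m : Fin l), B k.succ i m = ∑ j, B k.castSucc i j * W m j) {n₁ n₂ : ℕ}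
    (hn1 : (Finset.univ.filter fun s : Fin D.nroots => ∀ k : Fin 4, bil (B k) (vec D l s) (vec D l s) =
      bil (B k) (vec D l s₁) (vec D l s₁)).card ≤ n₁)
    (hn2 : (Finset.univ.filter fun s : Fin D.nroots => ∀ k : Fin 4, bil (B k) (vec D l s) (vec D l s) =
      bil (B k) (vec D l s₂) (vec D l s₂) ∧ bil (B k) (vec D l s) (vec D l s₁) =
      bil (B k) (vec D l s₂) (vec D l s₁)).card ≤ n₂)
    (hn : a = 1 ∨ n₁ * n₂ + R.length < p ^ 2) : x0 p Mx G = kJ p Mx G := by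
  have hpos : 0 < p := hpp.out.pos
  obtain ⟨hL, Pp, hP⟩ := exists_sylow H (T.le_card_Lam hq) hG
  have hPc : Nat.card Pp = p ^ (2 * a) := by
    have h1 : Nat.card Pp = Nat.card ↥(toSub H) := by rw [← hP]
    rw [h1, card_toSub, hL]
  by_cases ha1 : a = 1
  · exact H603.AP.x0_eq_kJ_of_sq hM Pp (by rw [hPc, ha1])
  · have hn' : n₁ * n₂ + R.length < p ^ 2 := hn.resolve_left ha1
    have ha2 : 2 ≤ a := by omega
    have hreg := T.card_reg ha h7 hq R hR hRu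
    have hlen : R.length * p ^ a < p ^ (2 * a) := by
      have h1 : R.length < p ^ a := (show R.length < p ^ 2 by omega).trans_le (Nat.pow_le_pow_right hpos ha2)
      calc R.length * p ^ a < p ^ a * p ^ a := Nat.mul_lt_mul_of_pos_right h1 (pow_pos hpos _)
        _ = p ^ (2 * a) := by rw [← pow_add]; congr 1; omega
    have hne : (LamReg hp (p ^ a) Q g w).Nonempty := by
      by_contra hcon
      rw [Set.not_nonempty_iff_eq_empty] at hcon
      rw [hcon, Nat.card_of_isEmpty (α := ↥(∅ : Set (Fin l → ZMod (p ^ a)))), zero_add] at hreg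
      omega
    have hC := T.card_Cth_le H hq hL hne hW h0 hB hn1 hn2
    refine H603.AP.x0_eq_kJ_of_reg hM Pp ?_ (height_hyp H Pp hP hC ?_)
    · rw [hP]
      intro x hx y hy
      exact toSub_comm H hx hy
    · rw [hL]
      have h1 : p ^ 2 * p ^ (2 * a) ≤ p ^ 2 * Nat.card ↥(LamReg hp (p ^ a) Q g w) + R.length * p ^ (2 * a) := by
        have h2 : p ^ 2 * (R.length * p ^ a) ≤ R.length * p ^ (2 * a) := by
          calc p ^ 2 * (R.length * p ^ a) = R.length * (p ^ 2 * p ^ a) := by ring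
            _ ≤ R.length * (p ^ a * p ^ a) :=
              Nat.mul_le_mul_left _ (Nat.mul_le_mul_right _ (Nat.pow_le_pow_right hpos ha2))
            _ = R.length * p ^ (2 * a) := by rw [← pow_add]; congr 2; omega
        calc p ^ 2 * p ^ (2 * a) ≤ p ^ 2 * (Nat.card ↥(LamReg hp (p ^ a) Q g w) + R.length * p ^ a) :=
              Nat.mul_le_mul_left _ hreg
          _ = p ^ 2 * Nat.card ↥(LamReg hp (p ^ a) Q g w) + p ^ 2 * (R.length * p ^ a) := by ring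
          _ ≤ _ := Nat.add_le_add_left h2 _
      have h3 : (n₁ * n₂ + R.length) * p ^ (2 * a) < p ^ 2 * p ^ (2 * a) :=
        Nat.mul_lt_mul_of_pos_right hn' (pow_pos hpos _)
      rw [add_mul] at h3
      omega

/-- an element `x` of order `p`, `x ~ xⁱ → iᵉ = 1`, `b ≤ l(B₀(C(x)))` -/
structure Ln (p : ℕ) (Mx : Ideal AlgInt) {S : Type u} [Group S] [Finite S] (x : S) (e b : ℕ) : Prop where
  ord : orderOf x = p
  fus : ∀ (g : S) (i : ℕ), g * x * g⁻¹ = x ^ i → (i : ZMod p) ^ e = 1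
  rank : b ≤ blockRank p (principalBlock Mx ↥(Subgroup.centralizer ({x} : Set S)))

include H in
/-- the centralizer of the element of order `p` -/
theorem centralizer_down (ha : a ≠ 0) {c : Fin l → ZMod (p ^ a)} (hc : c ∈ Lam hp (p ^ a) Q g w)
    (hcen : ∀ s : Fin D.nroots, lam c (vec D l s) = 0 ∨ lam (red p a ha c) (vec D l s) ≠ 0) :
    Subgroup.centralizer ({X (up p a (red p a ha c))} : Set G) = Subgroup.centralizer ({X c} : Set G) := by
  apply le_antisymm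
  · intro h hh
    rw [Subgroup.mem_centralizer_singleton_iff] at hh ⊢
    exact H.cen c hc _ ((up_mem_iff ha).2 (red_mem (hp := hp) ha hc)) (fun s hs => by
      rcases hcen s with h1 | h1
      · exact h1
      · exact absurd ((lam_up_eq_zero ha _ _).1 hs) h1) h hh
  · intro h hh
    rw [Subgroup.mem_centralizer_singleton_iff] at hh ⊢
    rw [X_up_red H ha hc]
    exact Commute.pow_right hh _

include H in
/-- **A line.** -/
theorem exists_line [Finite G] (hM : IsPModular p Mx) (ha : a ≠ 0)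
    (hG : ¬ p ^ (2 * a + 1) ∣ Nat.card G) {c y : Fin l → ZMod (p ^ a)} (hc : c ∈ Lam hp (p ^ a) Q g w)
    (hy : y ∈ Lam hp (p ^ a) Q g w) {x₁ x₂ : Fin l → ℤ} (h1 : IsUnit (lam c x₁)) (h2 : IsUnit (lam y x₂))
    {v : M.Group} (hv : v ∈ Cth hp g w) (hvc : ∀ x, lam c (rep M.toCoxeterSystem hp.isCartan v x) = lam c x)
    {t : ZMod (p ^ a)} {n : ℕ} (hvy : ∀ x, lam y (rep M.toCoxeterSystem hp.isCartan v x) = t * lam y x)
    (hn : (n : ZMod (p ^ a)) * t = 1)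
    (hcen : ∀ s : Fin D.nroots, lam c (vec D l s) = 0 ∨ lam (red p a ha c) (vec D l s) ≠ 0) {e : ℕ}
    (hfus : ∀ i : ℕ, ¬ p ∣ i → ms D l (red p a ha c) = ms D l (fun n => (i : ZMod (p ^ 1)) * red p a ha c n) →
      (i : ZMod p) ^ e = 1) :
    Ln p Mx (X (up p a (red p a ha c))) e (orderOf (n : ZMod p)) := by
  have oc := orderOf_X H hc h1
  have oy := orderOf_X H hy h2
  obtain ⟨m, hm⟩ := H.act v hv
  have hpr : Pr p a (X c) (X y) m n := by
    refine ⟨oc, oy, ?_, ?_, ?_⟩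
    · rw [← H.add c hc y hy, ← H.add y hy c hc, add_comm]
    · have h3 := hm c hc c hc fun x => hvc x
      rwa [mul_inv_eq_iff_eq_mul] at h3
    · have h3 := hm y hy _ (Lam.smul hp (n : ZMod (p ^ a)) hy) fun x => by
        rw [lam_smul', hvy, ← mul_assoc, hn, one_mul]
      rw [h3, X_nsmul H hy]
  have hrank := H682.KB.rank_pair hM ha hG hpr
  have hred := red_mem (hp := hp) ha hc
  have hord : orderOf (X (up p a (red p a ha c))) = p := by
    rw [X_up_red H ha hc]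
    have h3 : p ^ (a - 1) ∣ orderOf (X c) := by
      rw [oc]
      exact pow_dvd_pow p (by omega)
    rw [orderOf_pow_of_dvd (pow_ne_zero _ hpp.out.ne_zero) h3, oc, Nat.pow_div (by omega) hpp.out.pos,
      show a - (a - 1) = 1 by omega, pow_one]
  refine ⟨hord, ?_, ?_⟩
  · intro h i hh
    have hpi : ¬ p ∣ i := by
      intro hpi
      rw [orderOf_dvd_iff_pow_eq_one.1 (hord.symm ▸ hpi), mul_inv_eq_one, mul_eq_left] at hh
      rw [hh, orderOf_one] at hord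
      exact hpp.out.one_lt.ne hord
    apply hfus i hpi
    have h3 := X_nsmul (H.down ha) hred i
    have h4 : IsConj (X (up p a (red p a ha c))) (X (up p a ((i : ZMod (p ^ 1)) • red p a ha c))) := by
      rw [isConj_iff]
      exact ⟨h, by rw [hh]; exact h3.symm⟩
    exact ms_of_conj (H.down ha) hred (Lam.smul hp _ hred) h4
  · rw [centralizer_down H ha hc hcen]
    exact hrank

include H in
/-- `2 ≤ l(B₀)` -/
theorem two_le_of_line [Finite G] (hM : IsPModular p Mx) (ha : a ≠ 0) {y : Fin l → ZMod (p ^ a)}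
    (hy : y ∈ Lam hp (p ^ a) Q g w) {x₂ : Fin l → ℤ} (h2 : IsUnit (lam y x₂))
    {v : M.Group} (hv : v ∈ Cth hp g w)
    {t : ZMod (p ^ a)} {n : ℕ} (hvy : ∀ x, lam y (rep M.toCoxeterSystem hp.isCartan v x) = t * lam y x)
    (hn : (n : ZMod (p ^ a)) * t = 1) (hn1 : (n : ZMod p) ≠ 1) : 2 ≤ blockRank p (principalBlock Mx G) := by
  obtain ⟨m, hm⟩ := H.act v hv
  have h3 := hm y hy _ (Lam.smul hp (n : ZMod (p ^ a)) hy) fun x => by
    rw [lam_smul', hvy, ← mul_assoc, hn, one_mul]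
  rw [X_nsmul H hy] at h3
  exact H682.KB.two_le_of_conj hM ha (orderOf_X H hy h2) h3 hn1

include H in
/-- an element with few trivial roots is not conjugate to a power of an element with more -/
theorem not_conj_pow (ha : a ≠ 0) {c z : Fin l → ZMod (p ^ 1)} (hc : c ∈ Lam hp (p ^ 1) Q g w)
    (hz : z ∈ Lam hp (p ^ 1) Q g w) {n : ℕ}
    (h1 : (Finset.univ.filter fun s : Fin D.nroots => lam z (vec D l s) = 0).card ≤ n)
    (h2 : n < (Finset.univ.filter fun s : Fin D.nroots => lam c (vec D l s) = 0).card) (i : ℕ) :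
    ¬ IsConj (X (up p a z)) (X (up p a c) ^ i) := by
  have h3 := X_nsmul (H.down ha) hc i
  have h4 : n < (Finset.univ.filter fun s : Fin D.nroots =>
      lam ((i : ZMod (p ^ 1)) • c) (vec D l s) = 0).card := by
    refine h2.trans_le (Finset.card_le_card fun s hs => ?_)
    rw [Finset.mem_filter] at hs ⊢
    exact ⟨hs.1, by rw [lam_smul', hs.2, mul_zero]⟩
  have h5 := not_conj_of_card (H.down ha) hz (Lam.smul hp (i : ZMod (p ^ 1)) hc) h1 h4
  intro h6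
  apply h5
  have h7 : X (up p a c) ^ i = X (up p a ((i : ZMod (p ^ 1)) • c)) := h3.symm
  rwa [h7] at h6

include H in
/-- the order of an element of level one -/
theorem orderOf_up (ha : a ≠ 0) {z : Fin l → ZMod (p ^ 1)} (hz : z ∈ Lam hp (p ^ 1) Q g w) (hz0 : z ≠ 0) :
    orderOf (X (up p a z)) = p := by
  apply orderOf_eq_prime
  · have h3 : X (up p a (((p : ℕ) : ZMod (p ^ 1)) • z)) = X (up p a z) ^ p := X_nsmul (H.down ha) hz p
    rw [← h3]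
    have h4 : ((p : ℕ) : ZMod (p ^ 1)) = 0 := by
      rw [ZMod.natCast_eq_zero_iff, pow_one]
    rw [h4, zero_smul]
    exact X_zero (H.down ha)
  · intro h
    exact hz0 ((H.down ha).inj z hz h)

end model

end Cfsg.Agent.H208.XR
end

-- part: H208/XR/E8Data
section
/-!
# `E₈`, `d = 5, 8, 10, 12`: the data of the eigenspaces (S4791, S4927; helper208)

Two roots `s₁`, `s₂` which generate the root lattice over `ℤ[w]`, the dual eigenvectors `V₁`, `V₂`, the kernels `R` of the roots, the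
forms `(x, wᵏ y)`, and the numbers of roots in the orbits.
-/

set_option autoImplicit false
set_option maxRecDepth 100000
set_option maxHeartbeats 8000000

namespace Cfsg.Agent.H208.XR

open Cfsg Cfsg.Lie Cfsg.Lie.ChevalleyDatum
open Cfsg.Agent.H129.WData Cfsg.Agent.H210.EL Cfsg.Agent.Nodes.RGDChev
open Cfsg.Agent.ChevalleyStructure.CoxeterGeom Cfsg.Agent.ChevalleyStructure.CoxeterGeomTypes
open Cfsg.Agent.H682.KB (Q4 mul4 EigQ mt Am)

/-- a root of `E₈` -/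
def sx (n : ℕ) (h : n < chevE8.nroots := by decide +kernel) : Fin chevE8.nroots := ⟨n, h⟩

theorem Am_symm : ∀ i j, Am i j = Am j i := by decide +kernel

theorem Am_two : ∀ i, Am i i = 2 := by decide +kernel

/-- the first root -/
abbrev s₁ : Fin chevE8.nroots := sx 0

namespace E8F

open Cfsg.Agent.H682.KB (mx add4 sm4)

/-- the entries of a vector -/
def row (v : Fin 8 → ℤ) : List ℤ := [v 0, v 1, v 2, v 3, v 4, v 5, v 6, v 7]

/-- the scalar product -/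
noncomputable def dot (x : List ℤ) : List ℤ → ℤ :=
  @List.rec ℤ (fun _ => List ℤ → ℤ) (fun _ => 0)
    (fun a _ ih y => @List.casesOn ℤ (fun _ => ℤ) y 0 fun b z => Int.add (Int.mul a b) (ih z)) x

theorem dot_row (v w : Fin 8 → ℤ) : dot (row v) (row w) = ∑ i, v i * w i := by
  rw [Fin.sum_univ_eight]
  change v 0 * w 0 + (v 1 * w 1 + (v 2 * w 2 + (v 3 * w 3 + (v 4 * w 4 + (v 5 * w 5 + (v 6 * w 6 + (v 7 * w 7 + 0))))))) = _
  simp only [add_assoc, add_zero]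

/-- the roots -/
def RL : List (List ℤ) := chevE8Coroot.toList.map Array.toList

private noncomputable def _root_.Cfsg.Agent.LsF.f768418_0 : {f // @Cfsg.Agent.ChevalleyStructure.RootVecTab.dig = f} := ⟨_, by first | (delta Cfsg.Agent.ChevalleyStructure.RootVecTab.dig; rewrite [Cfsg.Agent.LsF.nmul_pat]; exact rfl) | exact rfl⟩
private noncomputable def _root_.Cfsg.Agent.LsF.f768418_1 : {f // @Cfsg.Agent.ChevalleyStructure.RootVecTab.packTab = f} := ⟨_, by first | (delta Cfsg.Agent.ChevalleyStructure.RootVecTab.packTab; rewrite [Cfsg.Agent.LsF.instDecEq_eq, Cfsg.Agent.LsF.ite_eq]; exact rfl) | exact rfl⟩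
private noncomputable def _root_.Cfsg.Agent.LsF.f768418_2 : {f // @Cfsg.Agent.ChevalleyStructure.RootVecTab.code = f} := ⟨_, by first | (delta Cfsg.Agent.ChevalleyStructure.RootVecTab.code; rewrite [Cfsg.Agent.LsF.f768418_1.2, Cfsg.Agent.LsF.nmul_pat, Cfsg.Agent.LsF.npow_pat]; exact rfl) | exact rfl⟩
private noncomputable def _root_.Cfsg.Agent.LsF.f768418_3 : {f // @Cfsg.Agent.ChevalleyStructure.RootVec.rt = f} := ⟨_, by first | (delta Cfsg.Agent.ChevalleyStructure.RootVec.rt; rewrite [Cfsg.Agent.LsF.f768418_0.2, Cfsg.Agent.LsF.f768418_2.2, Cfsg.Agent.LsF.nsub_pat, Cfsg.Agent.LsF.isub_pat, Cfsg.Agent.LsF.icast_pat, Cfsg.Agent.LsF.decLt_eq, Cfsg.Agent.LsF.dAnd_eq, Cfsg.Agent.LsF.ite_eq]; exact rfl) | exact rfl⟩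
private noncomputable def _root_.Cfsg.Agent.LsF.f768418_4 : {f // @Cfsg.Agent.Nodes.RGDChev.vec = f} := ⟨_, by first | (delta Cfsg.Agent.Nodes.RGDChev.vec; rewrite [Cfsg.Agent.LsF.f768418_3.2]; exact rfl) | exact rfl⟩
private noncomputable def _root_.Cfsg.Agent.LsF.f768418_5 : {f // @Cfsg.Agent.H208.XR.E8F.RL = f} := ⟨_, by first | (delta Cfsg.Agent.H208.XR.E8F.RL; rewrite [Cfsg.Agent.LsF.map_eq]; exact rfl) | exact rfl⟩
theorem RL_eq : (List.range 240).map (fun s => row (vec chevE8 8 s)) = RL := by (refine of_decide_eq_true ?_; (try (rewrite [Cfsg.Agent.LsF.f768418_4.2, Cfsg.Agent.LsF.f768418_5.2, Cfsg.Agent.LsF.map_eq, Cfsg.Agent.LsF.range_eq, Cfsg.Agent.LsF.instIDecEq_eq, Cfsg.Agent.LsF.dListEq_eq, Cfsg.Agent.LsF.decide_eq])); decide +kernel)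

theorem all_of {f : List ℤ → Bool} (h : RL.all f = true) (s : Fin chevE8.nroots) : f (row (vec chevE8 8 s)) = true :=
  List.all_eq_true.1 h _ (RL_eq ▸ List.mem_map_of_mem (List.mem_range.2 s.2))

theorem card_eq {p : Fin chevE8.nroots → Prop} [DecidablePred p] (f : List ℤ → Bool)
    (h : ∀ s, p s ↔ f (row (vec chevE8 8 s)) = true) : (Finset.univ.filter p).card = RL.countP f := by
  rw [← RL_eq, List.countP_map, List.countP_eq_length_filter,
    ← List.toFinset_card_of_nodup ((List.nodup_range (n := 240)).filter _)]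
  refine Finset.card_bij (fun s _ => s.1) (fun s hs => ?_) (fun _ _ _ _ e => Fin.ext e) fun n hn => ?_
  · exact List.mem_toFinset.2 (List.mem_filter.2 ⟨List.mem_range.2 s.2, (h s).1 (Finset.mem_filter.1 hs).2⟩)
  · obtain ⟨h1, h2⟩ := List.mem_filter.1 (List.mem_toFinset.1 hn)
    exact ⟨⟨n, List.mem_range.1 h1⟩, Finset.mem_filter.2 ⟨Finset.mem_univ _, (h _).2 h2⟩, rfl⟩

/-- evaluate an integer -/
noncomputable def frI (z : ℤ) (f : ℤ → Bool) : Bool :=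
  Int.rec (fun n => Nat.rec (f (Int.ofNat 0)) (fun k _ => f (Int.ofNat k.succ)) n)
    (fun n => Nat.rec (f (Int.negSucc 0)) (fun k _ => f (Int.negSucc k.succ)) n) z

theorem frI_eq (z : ℤ) (f : ℤ → Bool) : frI z f = f z := by
  rcases z with n | n <;> cases n <;> rfl

/-- `dq`, evaluated -/
noncomputable def dqF (x : List ℤ) (B : List Q4) (f : Q4 → Bool) : Bool :=
  frI (dot x (row fun n => (B.getD n (0, 0, 0, 0)).1)) fun a =>
  frI (dot x (row fun n => (B.getD n (0, 0, 0, 0)).2.1)) fun b =>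
  frI (dot x (row fun n => (B.getD n (0, 0, 0, 0)).2.2.1)) fun c =>
  frI (dot x (row fun n => (B.getD n (0, 0, 0, 0)).2.2.2)) fun d => f (a, b, c, d)

theorem dqF_eq (v : Fin 8 → ℤ) (B : List Q4) (f : Q4 → Bool) : dqF (row v) B f = f (dq v B) := by
  simp only [dqF, frI_eq, dot_row]
  rfl

/-- evaluate a quadruple -/
noncomputable def frQ (q : Q4) (f : Q4 → Bool) : Bool :=
  frI q.1 fun a => frI q.2.1 fun b => frI q.2.2.1 fun c => frI q.2.2.2 fun d => f (a, b, c, d)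

theorem frQ_eq (q : Q4) (f : Q4 → Bool) : frQ q f = f q := by simp only [frQ, frI_eq]

/-- `mul4`, evaluated step by step -/
noncomputable def mulF (P u v : Q4) (f : Q4 → Bool) : Bool :=
  frQ (mx P v) fun v1 => frQ (mx P v1) fun v2 => frQ (mx P v2) fun v3 =>
    frQ (add4 (sm4 u.1 v) (add4 (sm4 u.2.1 v1) (add4 (sm4 u.2.2.1 v2) (sm4 u.2.2.2 v3)))) f

theorem mulF_eq (P u v : Q4) (f : Q4 → Bool) : mulF P u v f = f (mul4 P u v) := by
  simp only [mulF, frQ_eq]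
  rfl

/-- `okU`, evaluated step by step -/
noncomputable def okF (P : Q4) (C : List (Q4 × Q4 × Q4)) (z : Q4) : Bool :=
  @List.rec _ (fun _ => Q4 → Bool) (fun acc => mulF P acc z okN)
    (fun c _ ih acc => frQ (cj c z) fun w => mulF P acc w ih) C (1, 0, 0, 0)

theorem okF_eq (P : Q4) (C : List (Q4 × Q4 × Q4)) (z : Q4) : okF P C z = okU P C z := by
  have h : ∀ (C : List (Q4 × Q4 × Q4)) (acc : Q4), @List.rec _ (fun _ => Q4 → Bool) (fun acc => mulF P acc z okN)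
      (fun c _ ih acc => frQ (cj c z) fun w => mulF P acc w ih) C acc =
      okN (mul4 P (C.foldl (fun acc c => mul4 P acc (cj c z)) acc) z) := fun C => by
    induction C with
    | nil => exact fun acc => mulF_eq _ _ _ _
    | cons c C ih => exact fun acc => (frQ_eq _ _).trans ((mulF_eq _ _ _ _).trans (ih _))
  exact h C _

/-- `bil` on lists -/
noncomputable def bilF (B : Mat 8) (x y : List ℤ) : ℤ := dot x (row fun i => dot (row (B i)) y)

theorem bilF_eq (B : Mat 8) (v w : Fin 8 → ℤ) : bilF B (row v) (row w) = bil B v w := by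
  simp only [bilF, dot_row]
  rfl

theorem hR_of {P : Q4} {C : List (Q4 × Q4 × Q4)} {V₁ V₂ : List Q4} {R : List (Q4 × Q4)}
    (h : (RL.all fun x => dqF x V₁ fun u => dqF x V₂ fun v =>
      (okF P C u || okF P C v) && R.any fun ρ => decide (mul4 P u ρ.2 = mul4 P v ρ.1)) = true) (s : Fin chevE8.nroots) :
    (okU P C (dq (vec chevE8 8 s) V₁) = true ∨ okU P C (dq (vec chevE8 8 s) V₂) = true) ∧
      ∃ ρ ∈ R, mul4 P (dq (vec chevE8 8 s) V₁) ρ.2 = mul4 P (dq (vec chevE8 8 s) V₂) ρ.1 := by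
  have k := all_of h s
  rw [dqF_eq, dqF_eq, okF_eq, okF_eq, Bool.and_eq_true, Bool.or_eq_true, List.any_eq_true] at k
  exact ⟨k.1, k.2.imp fun ρ e => ⟨e.1, of_decide_eq_true e.2⟩⟩

theorem cen_of {P : Q4} {C : List (Q4 × Q4 × Q4)} {B : List Q4}
    (h : (RL.all fun x => dqF x B fun u => decide (u = (0, 0, 0, 0)) || okF P C u) = true) (s : Fin chevE8.nroots) :
    dq (vec chevE8 8 s) B = (0, 0, 0, 0) ∨ okU P C (dq (vec chevE8 8 s) B) = true := by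
  have k := all_of h s
  rw [dqF_eq, okF_eq, Bool.or_eq_true] at k
  exact k.imp_left of_decide_eq_true

theorem cardB_eq (B : List Q4) : (Finset.univ.filter fun s : Fin chevE8.nroots =>
    dq (vec chevE8 8 s) B = (0, 0, 0, 0)).card = RL.countP fun x => dqF x B fun u => decide (u = (0, 0, 0, 0)) :=
  card_eq _ fun s => by rw [dqF_eq, decide_eq_true_iff]

theorem cardV_eq (P : Q4) (C : List (Q4 × Q4 × Q4)) (V : List Q4) : (Finset.univ.filter fun s : Fin chevE8.nroots =>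
    ¬ okU P C (dq (vec chevE8 8 s) V) = true).card = RL.countP fun x => dqF x V fun u => !okF P C u :=
  card_eq _ fun s => by rw [dqF_eq, okF_eq, Bool.not_eq_true', Bool.not_eq_true]

theorem hn1_eq (B : Fin 4 → Mat 8) (w : Fin 8 → ℤ) : (Finset.univ.filter fun s : Fin chevE8.nroots => ∀ k : Fin 4,
    bil (B k) (vec chevE8 8 s) (vec chevE8 8 s) = bil (B k) w w).card =
    RL.countP fun x => ([1, 2, 3, 0] : List (Fin 4)).all fun k => decide (bilF (B k) x x = bilF (B k) (row w) (row w)) :=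
  card_eq _ fun s => by
    simp only [bilF_eq, List.all_cons, List.all_nil, Bool.and_true, Bool.and_eq_true, decide_eq_true_iff, Fin.forall_fin_succ,
      IsEmpty.forall_iff, and_true]
    exact ⟨fun h => ⟨h.2.1, h.2.2.1, h.2.2.2, h.1⟩, fun h => ⟨h.2.2.2, h.1, h.2.1, h.2.2.1⟩⟩

theorem hn2_eq (B : Fin 4 → Mat 8) (w u : Fin 8 → ℤ) : (Finset.univ.filter fun s : Fin chevE8.nroots => ∀ k : Fin 4,
    bil (B k) (vec chevE8 8 s) (vec chevE8 8 s) = bil (B k) w w ∧ bil (B k) (vec chevE8 8 s) u = bil (B k) w u).card =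
    RL.countP fun x => (([0, 1, 2, 3] : List (Fin 4)).all fun k => decide (bilF (B k) x (row u) = bilF (B k) (row w) (row u))) &&
      ([0, 1, 2, 3] : List (Fin 4)).all fun k => decide (bilF (B k) x x = bilF (B k) (row w) (row w)) :=
  card_eq _ fun s => by
    simp only [bilF_eq, List.all_cons, List.all_nil, Bool.and_true, Bool.and_eq_true, decide_eq_true_iff, forall_and,
      Fin.forall_fin_succ, IsEmpty.forall_iff, and_true]
    exact and_comm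

end E8F

namespace D5

/-- the relation -/
def P : Q4 := (-1, -1, -1, -1)

/-- the conjugates -/
def C : List (Q4 × Q4 × Q4) := [((0, 0, 1, 0), (-1, -1, -1, -1), (0, 1, 0, 0)), ((0, 0, 0, 1), (0, 1, 0, 0), (-1, -1, -1, -1)), ((-1, -1, -1, -1), (0, 0, 0, 1), (0, 0, 1, 0))]

def V₁ : List Q4 := [(-1, -1, 0, 0), (0, 1, 0, 0), (1, 0, 0, 0), (0, 0, 1, 0), (-1, -1, -2, -1), (1, 1, 1, 2), (0, 0, 0, -1), (-1, 0, 0, 0)]

def V₂ : List Q4 := [(0, 0, -1, -1), (-1, -1, -1, 0), (1, 1, 1, 2), (0, -1, 0, -1), (0, 1, 1, 0), (0, 0, -1, 0), (-1, 0, 0, 0), (1, 0, 0, 0)]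

/-- the root kernels -/
def R : List (Q4 × Q4) := [((1, 0, 0, 0), (0, 0, 0, 0)), ((0, 0, 0, 0), (1, 0, 0, 0)), ((1, 1, 1, 1), (0, 0, -1, 0)), ((0, 0, -1, 0), (0, 1, 0, 0)), ((1, 1, 0, 0), (0, 0, 0, 1)), ((0, 0, -1, -1), (0, 0, 1, 0)), ((0, -1, 0, 0), (1, 1, 0, 0)), ((0, 0, 1, 0), (0, -1, -1, -1)), ((0, -1, -1, 0), (1, 1, 1, 0)), ((1, 1, 1, 0), (-1, -1, -1, 0)), ((1, 0, 0, -1), (0, 0, 1, 1)), ((0, 0, 1, 1), (1, 0, -1, 0))]

def B1 : Mat 8 := _root_.Cfsg.Agent.H682.KB.mt [[0, 1, 0, 0, -1, 1, -1, 1], [-1, 0, 1, 0, 0, 0, 0, -1], [0, -1, -1, 1, 1, -1, 0, 0], [0, 1, 0, -1, 0, 0, 1, 0], [1, -1, 0, 0, 0, 1, -1, 0], [0, 0, 0, 1, -1, -1, 1, 0], [-1, 0, 1, -1, 1, 0, -1, 1], [0, 0, -1, 1, -1, 1, 0, -1]]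

def B2 : Mat 8 := _root_.Cfsg.Agent.H682.KB.mt [[-1, 0, 0, 1, -1, 0, 1, -1], [0, -1, 0, 0, 1, -1, 1, 0], [1, 0, 0, -1, 0, 1, 0, 0], [-1, 0, 1, 0, 0, 0, -1, 0], [1, 0, -1, 1, -1, 0, 0, 1], [-1, 1, 0, -1, 1, 0, 0, 0], [1, -1, -1, 1, 0, 0, 0, -1], [0, 1, 1, -1, 0, -1, 1, 0]]

def B3 : Mat 8 := _root_.Cfsg.Agent.H682.KB.mt [[-1, 0, 1, -1, 1, -1, 1, 0], [0, -1, 0, 0, 0, 1, -1, 1], [0, 0, 0, 1, -1, 0, -1, 1], [1, 0, -1, 0, 1, -1, 1, -1], [-1, 1, 0, 0, -1, 1, 0, 0], [0, -1, 1, 0, 0, 0, 0, -1], [1, 1, 0, -1, 0, 0, 0, 1], [-1, 0, 0, 0, 1, 0, -1, 0]]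

def BB : Fin 4 → Mat 8 := ![Am, B1, B2, B3]

theorem eV₁ : EigQ P (hd H682.KB.D5.cw) (0, 1, 0, 0) V₁ := by decide +kernel

theorem eV₂ : EigQ P (hd H682.KB.D5.cw) (0, 1, 0, 0) V₂ := by decide +kernel

theorem h11 : dq (vec chevE8 8 s₁) V₁ = (1, 0, 0, 0) := by decide +kernel

theorem h12 : dq (vec chevE8 8 s₁) V₂ = (0, 0, 0, 0) := by decide +kernel

theorem h21 : dq (vec chevE8 8 (sx 1)) V₁ = (0, 0, 0, 0) := by decide +kernel

theorem h22 : dq (vec chevE8 8 (sx 1)) V₂ = (1, 0, 0, 0) := by decide +kernel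

private noncomputable def _root_.Cfsg.Agent.LsF.f768418_6 : {f // @Cfsg.Agent.H208.XR.E8F.dot = f} := ⟨_, by first | (delta Cfsg.Agent.H208.XR.E8F.dot; rewrite [Cfsg.Agent.LsF.iadd_eq, Cfsg.Agent.LsF.imul_eq]; (try delta List.casesOn); exact rfl) | exact rfl⟩
private noncomputable def _root_.Cfsg.Agent.LsF.f768418_7 : {f // @Cfsg.Agent.H208.XR.E8F.dqF = f} := ⟨_, by first | (delta Cfsg.Agent.H208.XR.E8F.dqF; rewrite [Cfsg.Agent.LsF.f768418_6.2, Cfsg.Agent.LsF.getD_eq]; exact rfl) | exact rfl⟩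
private noncomputable def _root_.Cfsg.Agent.LsF.f768418_8 : {f // @Cfsg.Agent.H682.KB.mx = f} := ⟨_, by first | (delta Cfsg.Agent.H682.KB.mx; rewrite [Cfsg.Agent.LsF.iadd_pat, Cfsg.Agent.LsF.imul_pat]; exact rfl) | exact rfl⟩
private noncomputable def _root_.Cfsg.Agent.LsF.f768418_9 : {f // @Cfsg.Agent.H682.KB.add4 = f} := ⟨_, by first | (delta Cfsg.Agent.H682.KB.add4; rewrite [Cfsg.Agent.LsF.iadd_pat]; exact rfl) | exact rfl⟩
private noncomputable def _root_.Cfsg.Agent.LsF.f768418_10 : {f // @Cfsg.Agent.H682.KB.sm4 = f} := ⟨_, by first | (delta Cfsg.Agent.H682.KB.sm4; rewrite [Cfsg.Agent.LsF.imul_pat]; exact rfl) | exact rfl⟩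
private noncomputable def _root_.Cfsg.Agent.LsF.f768418_11 : {f // @Cfsg.Agent.H208.XR.E8F.mulF = f} := ⟨_, by first | (delta Cfsg.Agent.H208.XR.E8F.mulF; rewrite [Cfsg.Agent.LsF.f768418_8.2, Cfsg.Agent.LsF.f768418_9.2, Cfsg.Agent.LsF.f768418_10.2]; exact rfl) | exact rfl⟩
private noncomputable def _root_.Cfsg.Agent.LsF.f768418_12 : {f // @Cfsg.Agent.H208.XR.okN = f} := ⟨_, by first | (delta Cfsg.Agent.H208.XR.okN; rewrite [Cfsg.Agent.LsF.instIBEq_pat, Cfsg.Agent.LsF.dProdEq_eq, Cfsg.Agent.LsF.and_eq, Cfsg.Agent.LsF.contains_eq, Cfsg.Agent.LsF.instIDecEq_eq, Cfsg.Agent.LsF.decide_eq]; exact rfl) | exact rfl⟩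
private noncomputable def _root_.Cfsg.Agent.LsF.f768418_13 : {f // @Cfsg.Agent.H208.XR.cj = f} := ⟨_, by first | (delta Cfsg.Agent.H208.XR.cj; rewrite [Cfsg.Agent.LsF.f768418_9.2, Cfsg.Agent.LsF.f768418_10.2]; exact rfl) | exact rfl⟩
private noncomputable def _root_.Cfsg.Agent.LsF.f768418_14 : {f // @Cfsg.Agent.H208.XR.E8F.okF = f} := ⟨_, by first | (delta Cfsg.Agent.H208.XR.E8F.okF; rewrite [Cfsg.Agent.LsF.f768418_11.2, Cfsg.Agent.LsF.f768418_12.2, Cfsg.Agent.LsF.f768418_13.2]; exact rfl) | exact rfl⟩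
private noncomputable def _root_.Cfsg.Agent.LsF.f768418_15 : {f // @Cfsg.Agent.H682.KB.mul4 = f} := ⟨_, by first | (delta Cfsg.Agent.H682.KB.mul4; rewrite [Cfsg.Agent.LsF.f768418_9.2, Cfsg.Agent.LsF.f768418_10.2, Cfsg.Agent.LsF.f768418_8.2]; exact rfl) | exact rfl⟩
theorem hR : ∀ s : Fin chevE8.nroots, (okU P C (dq (vec chevE8 8 s) V₁) = true ∨ okU P C (dq (vec chevE8 8 s) V₂) = true) ∧
    ∃ ρ ∈ R, mul4 P (dq (vec chevE8 8 s) V₁) ρ.2 = mul4 P (dq (vec chevE8 8 s) V₂) ρ.1 :=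
  E8F.hR_of (by ((try (rewrite [Cfsg.Agent.LsF.f768418_5.2, Cfsg.Agent.LsF.f768418_7.2, Cfsg.Agent.LsF.f768418_14.2, Cfsg.Agent.LsF.f768418_15.2, Cfsg.Agent.LsF.dProdEq_eq, Cfsg.Agent.LsF.and_eq, Cfsg.Agent.LsF.or_eq, Cfsg.Agent.LsF.all_eq, Cfsg.Agent.LsF.any_eq, Cfsg.Agent.LsF.instIDecEq_eq, Cfsg.Agent.LsF.decide_eq])); decide +kernel))

theorem hRu : ∀ ρ ∈ R, okU P C ρ.1 = true ∨ okU P C ρ.2 = true := by decide +kernel

private noncomputable def _root_.Cfsg.Agent.LsF.f768418_16 : {f // @Cfsg.Agent.H682.KB.mt = f} := ⟨_, by first | (delta Cfsg.Agent.H682.KB.mt; rewrite [Cfsg.Agent.LsF.getD_eq]; exact rfl) | exact rfl⟩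
private noncomputable def _root_.Cfsg.Agent.LsF.f768418_17 : {f // @Cfsg.Agent.H682.KB.Am = f} := ⟨_, by first | (delta Cfsg.Agent.H682.KB.Am; rewrite [Cfsg.Agent.LsF.f768418_16.2, Cfsg.Agent.LsF.ineg_pat]; exact rfl) | exact rfl⟩
private noncomputable def _root_.Cfsg.Agent.LsF.f768418_18 : {f // @Cfsg.Agent.H208.XR.D5.B1 = f} := ⟨_, by first | (delta Cfsg.Agent.H208.XR.D5.B1; rewrite [Cfsg.Agent.LsF.f768418_16.2, Cfsg.Agent.LsF.ineg_pat]; exact rfl) | exact rfl⟩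
private noncomputable def _root_.Cfsg.Agent.LsF.f768418_19 : {f // @Cfsg.Agent.H208.XR.D5.B2 = f} := ⟨_, by first | (delta Cfsg.Agent.H208.XR.D5.B2; rewrite [Cfsg.Agent.LsF.f768418_16.2, Cfsg.Agent.LsF.ineg_pat]; exact rfl) | exact rfl⟩
private noncomputable def _root_.Cfsg.Agent.LsF.f768418_20 : {f // @Cfsg.Agent.H208.XR.D5.B3 = f} := ⟨_, by first | (delta Cfsg.Agent.H208.XR.D5.B3; rewrite [Cfsg.Agent.LsF.f768418_16.2, Cfsg.Agent.LsF.ineg_pat]; exact rfl) | exact rfl⟩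
private noncomputable def _root_.Cfsg.Agent.LsF.f768418_21 : {f // @Cfsg.Agent.H208.XR.D5.BB = f} := ⟨_, by first | (delta Cfsg.Agent.H208.XR.D5.BB; rewrite [Cfsg.Agent.LsF.f768418_17.2, Cfsg.Agent.LsF.f768418_18.2, Cfsg.Agent.LsF.f768418_19.2, Cfsg.Agent.LsF.f768418_20.2, Cfsg.Agent.LsF.vecCons_eq]; exact rfl) | exact rfl⟩
private noncomputable def _root_.Cfsg.Agent.LsF.f768418_22 : {f // @Cfsg.Agent.H129.WData.hd = f} := ⟨_, by first | (delta Cfsg.Agent.H129.WData.hd; rewrite [Cfsg.Agent.LsF.dFinEq_eq, Cfsg.Agent.LsF.ite_eq]; (try delta Cfsg.Agent.H129.WData.hd.match_1); (try delta List.casesOn Prod.casesOn); exact rfl) | exact rfl⟩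
private noncomputable def _root_.Cfsg.Agent.LsF.f768418_23 : {f // @Cfsg.Agent.H682.KB.D5.cw = f} := ⟨_, by first | (delta Cfsg.Agent.H682.KB.D5.cw; rewrite [Cfsg.Agent.LsF.f768418_16.2, Cfsg.Agent.LsF.ineg_pat]; exact rfl) | exact rfl⟩
theorem hB : ∀ (k : Fin 3) (i m : Fin 8), BB k.succ i m = ∑ j, BB k.castSucc i j * hd H682.KB.D5.cw m j := by (refine of_decide_eq_true ?_; (try (rewrite [Cfsg.Agent.LsF.f768418_21.2, Cfsg.Agent.LsF.f768418_22.2, Cfsg.Agent.LsF.f768418_23.2, Cfsg.Agent.LsF.imul_pat, Cfsg.Agent.LsF.finFintype_eq, Cfsg.Agent.LsF.fsum_eq, Cfsg.Agent.LsF.iACM_eq, Cfsg.Agent.LsF.instIDecEq_eq, Cfsg.Agent.LsF.dForallFin_eq, Cfsg.Agent.LsF.decide_eq])); decide +kernel)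

private noncomputable def _root_.Cfsg.Agent.LsF.f768418_24 : {f // @Cfsg.Agent.H208.XR.E8F.bilF = f} := ⟨_, by first | (delta Cfsg.Agent.H208.XR.E8F.bilF; rewrite [Cfsg.Agent.LsF.f768418_6.2]; exact rfl) | exact rfl⟩
theorem hn1 : (Finset.univ.filter fun s : Fin chevE8.nroots => ∀ k : Fin 4, bil (BB k) (vec chevE8 8 s) (vec chevE8 8 s) =
    bil (BB k) (vec chevE8 8 s₁) (vec chevE8 8 s₁)).card ≤ 120 :=
  (E8F.hn1_eq _ _).trans_le (by (refine of_decide_eq_true ?_; (try (rewrite [Cfsg.Agent.LsF.f768418_24.2, Cfsg.Agent.LsF.f768418_21.2, Cfsg.Agent.LsF.f768418_4.2, Cfsg.Agent.LsF.f768418_5.2, Cfsg.Agent.LsF.decLe_eq, Cfsg.Agent.LsF.all_eq, Cfsg.Agent.LsF.countP_eq, Cfsg.Agent.LsF.instIDecEq_eq, Cfsg.Agent.LsF.decide_eq])); decide +kernel))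

theorem hn2 : (Finset.univ.filter fun s : Fin chevE8.nroots => ∀ k : Fin 4, bil (BB k) (vec chevE8 8 s) (vec chevE8 8 s) =
    bil (BB k) (vec chevE8 8 (sx 1)) (vec chevE8 8 (sx 1)) ∧ bil (BB k) (vec chevE8 8 s) (vec chevE8 8 s₁) =
    bil (BB k) (vec chevE8 8 (sx 1)) (vec chevE8 8 s₁)).card ≤ 5 :=
  (E8F.hn2_eq _ _ _).trans_le (by decide +kernel)

theorem cenB : ∀ s : Fin chevE8.nroots, dq (vec chevE8 8 s) H682.KB.D5.B = (0, 0, 0, 0) ∨
    okU P C (dq (vec chevE8 8 s) H682.KB.D5.B) = true :=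
  E8F.cen_of (by ((try (rewrite [Cfsg.Agent.LsF.f768418_5.2, Cfsg.Agent.LsF.f768418_7.2, Cfsg.Agent.LsF.f768418_14.2, Cfsg.Agent.LsF.dProdEq_eq, Cfsg.Agent.LsF.or_eq, Cfsg.Agent.LsF.all_eq, Cfsg.Agent.LsF.instIDecEq_eq, Cfsg.Agent.LsF.decide_eq])); decide +kernel))

theorem cardB : 0 < (Finset.univ.filter fun s : Fin chevE8.nroots =>
    dq (vec chevE8 8 s) H682.KB.D5.B = (0, 0, 0, 0)).card :=
  lt_of_lt_of_eq (by decide +kernel) (E8F.cardB_eq _).symm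

end D5

namespace D8

/-- the relation -/
def P : Q4 := (-1, 0, 0, 0)

/-- the conjugates -/
def C : List (Q4 × Q4 × Q4) := [((0, 0, 0, 1), (0, 0, -1, 0), (0, 1, 0, 0)), ((0, -1, 0, 0), (0, 0, 1, 0), (0, 0, 0, -1)), ((0, 0, 0, -1), (0, 0, -1, 0), (0, -1, 0, 0))]

def V₁ : List Q4 := [(-1, 0, -1, -1), (1, 0, -1, -1), (0, 0, 0, 1), (0, 0, 1, 0), (0, 1, 0, 0), (0, -1, -1, 1), (0, -1, 1, -1), (-1, 1, 0, 0)]

def V₂ : List Q4 := [(1, 1, 0, 0), (0, 1, 2, 1), (0, -1, 0, -1), (-1, 0, -1, 0), (0, -1, 0, 1), (1, 1, 0, -1), (0, 0, 0, 0), (0, 0, 0, 0)]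

/-- the root kernels -/
def R : List (Q4 × Q4) := [((1, 0, 0, 0), (0, 0, 0, 0)), ((0, -1, 0, 0), (1, 1, 0, -1)), ((0, 0, 0, 0), (1, 0, 0, 0)), ((0, 0, 1, 0), (0, 0, -1, 0)), ((0, 0, 1, 1), (0, -1, -1, -1)), ((1, 0, 0, -1), (0, 1, 1, 1)), ((1, 0, 0, 0), (0, 0, 1, 0)), ((1, 0, 1, 0), (-1, 0, 0, 0)), ((1, 1, 1, 0), (-1, -1, 0, 1)), ((0, 0, -1, 0), (1, 1, 0, 0)), ((-1, 0, 0, 0), (1, 0, 0, -1)), ((-1, 1, 1, 0), (0, -1, -1, 0)), ((0, -1, 0, 1), (1, 0, -1, -1)), ((-1, -1, 1, 0), (1, 0, -1, -1)), ((1, -1, 0, -1), (0, 1, 1, 0)), ((1, -1, -1, 0), (1, 1, 1, 0)), ((0, 0, 2, 0), (-1, -1, -1, 0)), ((-1, -1, -1, 0), (2, 1, 0, -1))]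

def B1 : Mat 8 := _root_.Cfsg.Agent.H682.KB.mt [[0, 0, 1, -1, 0, 1, 0, -1], [1, 1, -1, 0, -1, 1, 0, 0], [0, -1, -1, 2, -1, 0, 0, 0], [0, 0, 0, -1, 2, -1, 0, 0], [-1, 1, 1, 0, -1, 0, 0, 0], [0, -1, 0, 0, 0, 0, 1, 0], [1, 0, 0, 0, 0, 0, -1, 1], [-1, 0, 0, 0, 0, 1, -1, 0]]

def B2 : Mat 8 := _root_.Cfsg.Agent.H682.KB.mt [[0, -1, 0, 1, -1, 0, 1, 0], [1, 0, 0, -1, 0, 1, 0, 0], [0, 0, 0, -1, 2, -1, 0, 0], [-1, 1, 1, 0, -1, 0, 0, 0], [1, 0, -2, 1, 0, 0, 0, 0], [0, -1, 1, 0, 0, 0, -1, 1], [-1, 0, 0, 0, 0, 1, 0, -1], [0, 0, 0, 0, 0, -1, 1, 0]]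

def B3 : Mat 8 := _root_.Cfsg.Agent.H682.KB.mt [[0, -1, 0, 0, 1, 0, -1, 1], [0, -1, 1, 0, -1, 1, 0, 0], [-1, 1, 1, 0, -1, 0, 0, 0], [1, 0, -2, 1, 0, 0, 0, 0], [0, 1, 1, -2, 1, 0, 0, 0], [-1, -1, 0, 1, 0, 0, 0, -1], [0, 0, 0, 0, 0, -1, 1, 1], [1, 0, 0, 0, 0, 0, -1, 0]]

def BB : Fin 4 → Mat 8 := ![Am, B1, B2, B3]

theorem eV₁ : EigQ P (hd H682.KB.D8.cw) (0, 1, 0, 0) V₁ := by decide +kernel

theorem eV₂ : EigQ P (hd H682.KB.D8.cw) (0, 1, 0, 0) V₂ := by decide +kernel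

theorem h11 : dq (vec chevE8 8 s₁) V₁ = (1, 0, 0, 0) := by decide +kernel

theorem h12 : dq (vec chevE8 8 s₁) V₂ = (0, 0, 0, 0) := by decide +kernel

theorem h21 : dq (vec chevE8 8 (sx 4)) V₁ = (0, 0, 0, 0) := by decide +kernel

theorem h22 : dq (vec chevE8 8 (sx 4)) V₂ = (1, 0, 0, 0) := by decide +kernel

theorem hR : ∀ s : Fin chevE8.nroots, (okU P C (dq (vec chevE8 8 s) V₁) = true ∨ okU P C (dq (vec chevE8 8 s) V₂) = true) ∧
    ∃ ρ ∈ R, mul4 P (dq (vec chevE8 8 s) V₁) ρ.2 = mul4 P (dq (vec chevE8 8 s) V₂) ρ.1 :=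
  E8F.hR_of (by ((try (rewrite [Cfsg.Agent.LsF.f768418_5.2, Cfsg.Agent.LsF.f768418_7.2, Cfsg.Agent.LsF.f768418_14.2, Cfsg.Agent.LsF.f768418_15.2, Cfsg.Agent.LsF.dProdEq_eq, Cfsg.Agent.LsF.and_eq, Cfsg.Agent.LsF.or_eq, Cfsg.Agent.LsF.all_eq, Cfsg.Agent.LsF.any_eq, Cfsg.Agent.LsF.instIDecEq_eq, Cfsg.Agent.LsF.decide_eq])); decide +kernel))

theorem hRu : ∀ ρ ∈ R, okU P C ρ.1 = true ∨ okU P C ρ.2 = true := by decide +kernel

private noncomputable def _root_.Cfsg.Agent.LsF.f768418_25 : {f // @Cfsg.Agent.H208.XR.D8.B1 = f} := ⟨_, by first | (delta Cfsg.Agent.H208.XR.D8.B1; rewrite [Cfsg.Agent.LsF.f768418_16.2, Cfsg.Agent.LsF.ineg_pat]; exact rfl) | exact rfl⟩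
private noncomputable def _root_.Cfsg.Agent.LsF.f768418_26 : {f // @Cfsg.Agent.H208.XR.D8.B2 = f} := ⟨_, by first | (delta Cfsg.Agent.H208.XR.D8.B2; rewrite [Cfsg.Agent.LsF.f768418_16.2, Cfsg.Agent.LsF.ineg_pat]; exact rfl) | exact rfl⟩
private noncomputable def _root_.Cfsg.Agent.LsF.f768418_27 : {f // @Cfsg.Agent.H208.XR.D8.B3 = f} := ⟨_, by first | (delta Cfsg.Agent.H208.XR.D8.B3; rewrite [Cfsg.Agent.LsF.f768418_16.2, Cfsg.Agent.LsF.ineg_pat]; exact rfl) | exact rfl⟩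
private noncomputable def _root_.Cfsg.Agent.LsF.f768418_28 : {f // @Cfsg.Agent.H208.XR.D8.BB = f} := ⟨_, by first | (delta Cfsg.Agent.H208.XR.D8.BB; rewrite [Cfsg.Agent.LsF.f768418_17.2, Cfsg.Agent.LsF.f768418_25.2, Cfsg.Agent.LsF.f768418_26.2, Cfsg.Agent.LsF.f768418_27.2, Cfsg.Agent.LsF.vecCons_eq]; exact rfl) | exact rfl⟩
private noncomputable def _root_.Cfsg.Agent.LsF.f768418_29 : {f // @Cfsg.Agent.H682.KB.D8.cw = f} := ⟨_, by first | (delta Cfsg.Agent.H682.KB.D8.cw; rewrite [Cfsg.Agent.LsF.f768418_16.2, Cfsg.Agent.LsF.ineg_pat]; exact rfl) | exact rfl⟩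
theorem hB : ∀ (k : Fin 3) (i m : Fin 8), BB k.succ i m = ∑ j, BB k.castSucc i j * hd H682.KB.D8.cw m j := by (refine of_decide_eq_true ?_; (try (rewrite [Cfsg.Agent.LsF.f768418_28.2, Cfsg.Agent.LsF.f768418_22.2, Cfsg.Agent.LsF.f768418_29.2, Cfsg.Agent.LsF.imul_pat, Cfsg.Agent.LsF.finFintype_eq, Cfsg.Agent.LsF.fsum_eq, Cfsg.Agent.LsF.iACM_eq, Cfsg.Agent.LsF.instIDecEq_eq, Cfsg.Agent.LsF.dForallFin_eq, Cfsg.Agent.LsF.decide_eq])); decide +kernel)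

theorem hn1 : (Finset.univ.filter fun s : Fin chevE8.nroots => ∀ k : Fin 4, bil (BB k) (vec chevE8 8 s) (vec chevE8 8 s) =
    bil (BB k) (vec chevE8 8 s₁) (vec chevE8 8 s₁)).card ≤ 48 :=
  (E8F.hn1_eq _ _).trans_le (by (refine of_decide_eq_true ?_; (try (rewrite [Cfsg.Agent.LsF.f768418_24.2, Cfsg.Agent.LsF.f768418_28.2, Cfsg.Agent.LsF.f768418_4.2, Cfsg.Agent.LsF.f768418_5.2, Cfsg.Agent.LsF.decLe_eq, Cfsg.Agent.LsF.all_eq, Cfsg.Agent.LsF.countP_eq, Cfsg.Agent.LsF.instIDecEq_eq, Cfsg.Agent.LsF.decide_eq])); decide +kernel))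

theorem hn2 : (Finset.univ.filter fun s : Fin chevE8.nroots => ∀ k : Fin 4, bil (BB k) (vec chevE8 8 s) (vec chevE8 8 s) =
    bil (BB k) (vec chevE8 8 (sx 4)) (vec chevE8 8 (sx 4)) ∧ bil (BB k) (vec chevE8 8 s) (vec chevE8 8 s₁) =
    bil (BB k) (vec chevE8 8 (sx 4)) (vec chevE8 8 s₁)).card ≤ 4 :=
  (E8F.hn2_eq _ _ _).trans_le (by decide +kernel)

theorem cenB : ∀ s : Fin chevE8.nroots, dq (vec chevE8 8 s) H682.KB.D8.B = (0, 0, 0, 0) ∨
    okU P C (dq (vec chevE8 8 s) H682.KB.D8.B) = true :=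
  E8F.cen_of (by decide +kernel)

theorem cardB : 8 < (Finset.univ.filter fun s : Fin chevE8.nroots =>
    dq (vec chevE8 8 s) H682.KB.D8.B = (0, 0, 0, 0)).card :=
  lt_of_lt_of_eq (by decide +kernel) (E8F.cardB_eq _).symm

theorem cardV : (Finset.univ.filter fun s : Fin chevE8.nroots =>
    ¬ okU P C (dq (vec chevE8 8 s) V₁) = true).card ≤ 8 :=
  (E8F.cardV_eq _ _ _).trans_le (by (refine of_decide_eq_true ?_; (try (rewrite [Cfsg.Agent.LsF.f768418_7.2, Cfsg.Agent.LsF.f768418_14.2, Cfsg.Agent.LsF.f768418_5.2, Cfsg.Agent.LsF.not_eq, Cfsg.Agent.LsF.decLe_eq, Cfsg.Agent.LsF.countP_eq, Cfsg.Agent.LsF.decide_eq])); decide +kernel))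

end D8

namespace D10

/-- the relation -/
def P : Q4 := (-1, 1, -1, 1)

/-- the conjugates -/
def C : List (Q4 × Q4 × Q4) := [((0, 0, 0, 1), (0, -1, 0, 0), (1, -1, 1, -1)), ((0, 0, -1, 0), (-1, 1, -1, 1), (0, 1, 0, 0)), ((1, -1, 1, -1), (0, 0, 0, -1), (0, 0, -1, 0))]

def V₁ : List Q4 := [(1, -1, 0, -1), (0, -1, 0, 1), (0, 1, 0, 1), (0, 0, 1, -1), (-1, 1, -2, 1), (1, -1, 1, -1), (0, 0, 0, 0), (-1, 0, 0, 0)]

def V₂ : List Q4 := [(0, 0, 0, 1), (1, -1, 1, -1), (0, -1, 0, 0), (-1, 1, -1, 0), (1, 0, 0, 0), (-1, 1, 0, 1), (0, -1, 1, -1), (1, 0, 0, 0)]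

/-- the root kernels -/
def R : List (Q4 × Q4) := [((1, 0, 0, 0), (0, 0, 0, 0)), ((0, 0, 0, 0), (1, 0, 0, 0)), ((1, -1, 1, -1), (0, 0, 1, 0)), ((0, 0, -1, 0), (1, 0, 1, 0)), ((0, 0, 0, 1), (1, -1, 1, -1)), ((-1, 1, -1, 1), (1, 0, 0, -1)), ((1, 0, 0, -1), (0, 0, 0, 1)), ((1, -1, 0, -1), (0, 1, 0, 1)), ((1, 0, 1, 0), (0, -1, 0, 0)), ((-1, 0, -1, 1), (2, -1, 1, -1)), ((0, 1, 0, 1), (0, -1, 0, -1)), ((2, -1, 1, -1), (-1, 0, 0, 1))]

def B1 : Mat 8 := _root_.Cfsg.Agent.H682.KB.mt [[1, 0, -1, 0, 0, 0, 1, 0], [-1, 0, 0, 1, -1, 0, 0, 1], [-1, 0, 1, 0, -1, 1, 0, -1], [1, -1, 0, 0, 1, -1, 0, 0], [0, 2, 0, -1, 0, 0, 0, 0], [0, -1, 0, 0, 0, 1, -1, 1], [0, 0, -1, 1, 0, 0, 0, -1], [-1, 0, 1, -1, 1, -1, 1, 0]]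

def B2 : Mat 8 := _root_.Cfsg.Agent.H682.KB.mt [[0, 0, -1, 0, 1, 0, 0, 0], [-1, -1, 1, 0, 1, -1, 0, 0], [0, -1, 0, 1, -1, 1, -1, 0], [1, 1, 0, -1, 0, 0, 1, -1], [-1, 0, 0, 1, -1, 0, 0, 1], [0, 0, 0, -1, 1, 0, 0, 0], [1, 0, 0, 0, 0, 0, -1, 1], [-1, 1, 0, 0, 0, 0, 0, -1]]

def B3 : Mat 8 := _root_.Cfsg.Agent.H682.KB.mt [[0, 1, 0, -1, 1, 0, -1, 1], [0, 1, 1, -1, 0, 0, 0, -1], [1, -1, 0, 0, 0, 0, 0, 0], [0, 0, -1, 1, -1, 1, 0, 0], [-1, -1, 1, 0, 1, -1, 0, 0], [0, 1, -1, 0, 0, 0, 0, 0], [0, 0, 1, -1, 0, 0, 1, 0], [0, 0, 0, 1, -1, 0, -1, 1]]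

def BB : Fin 4 → Mat 8 := ![Am, B1, B2, B3]

theorem eV₁ : EigQ P (hd H682.KB.D10.cw) (0, 1, 0, 0) V₁ := by decide +kernel

theorem eV₂ : EigQ P (hd H682.KB.D10.cw) (0, 1, 0, 0) V₂ := by decide +kernel

theorem h11 : dq (vec chevE8 8 s₁) V₁ = (1, 0, 0, 0) := by decide +kernel

theorem h12 : dq (vec chevE8 8 s₁) V₂ = (0, 0, 0, 0) := by decide +kernel

theorem h21 : dq (vec chevE8 8 (sx 1)) V₁ = (0, 0, 0, 0) := by decide +kernel

theorem h22 : dq (vec chevE8 8 (sx 1)) V₂ = (1, 0, 0, 0) := by decide +kernel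

theorem hR : ∀ s : Fin chevE8.nroots, (okU P C (dq (vec chevE8 8 s) V₁) = true ∨ okU P C (dq (vec chevE8 8 s) V₂) = true) ∧
    ∃ ρ ∈ R, mul4 P (dq (vec chevE8 8 s) V₁) ρ.2 = mul4 P (dq (vec chevE8 8 s) V₂) ρ.1 :=
  E8F.hR_of (by ((try (rewrite [Cfsg.Agent.LsF.f768418_5.2, Cfsg.Agent.LsF.f768418_7.2, Cfsg.Agent.LsF.f768418_14.2, Cfsg.Agent.LsF.f768418_15.2, Cfsg.Agent.LsF.dProdEq_eq, Cfsg.Agent.LsF.and_eq, Cfsg.Agent.LsF.or_eq, Cfsg.Agent.LsF.all_eq, Cfsg.Agent.LsF.any_eq, Cfsg.Agent.LsF.instIDecEq_eq, Cfsg.Agent.LsF.decide_eq])); decide +kernel))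

theorem hRu : ∀ ρ ∈ R, okU P C ρ.1 = true ∨ okU P C ρ.2 = true := by decide +kernel

private noncomputable def _root_.Cfsg.Agent.LsF.f768418_30 : {f // @Cfsg.Agent.H208.XR.D10.B1 = f} := ⟨_, by first | (delta Cfsg.Agent.H208.XR.D10.B1; rewrite [Cfsg.Agent.LsF.f768418_16.2, Cfsg.Agent.LsF.ineg_pat]; exact rfl) | exact rfl⟩
private noncomputable def _root_.Cfsg.Agent.LsF.f768418_31 : {f // @Cfsg.Agent.H208.XR.D10.B2 = f} := ⟨_, by first | (delta Cfsg.Agent.H208.XR.D10.B2; rewrite [Cfsg.Agent.LsF.f768418_16.2, Cfsg.Agent.LsF.ineg_pat]; exact rfl) | exact rfl⟩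
private noncomputable def _root_.Cfsg.Agent.LsF.f768418_32 : {f // @Cfsg.Agent.H208.XR.D10.B3 = f} := ⟨_, by first | (delta Cfsg.Agent.H208.XR.D10.B3; rewrite [Cfsg.Agent.LsF.f768418_16.2, Cfsg.Agent.LsF.ineg_pat]; exact rfl) | exact rfl⟩
private noncomputable def _root_.Cfsg.Agent.LsF.f768418_33 : {f // @Cfsg.Agent.H208.XR.D10.BB = f} := ⟨_, by first | (delta Cfsg.Agent.H208.XR.D10.BB; rewrite [Cfsg.Agent.LsF.f768418_17.2, Cfsg.Agent.LsF.f768418_30.2, Cfsg.Agent.LsF.f768418_31.2, Cfsg.Agent.LsF.f768418_32.2, Cfsg.Agent.LsF.vecCons_eq]; exact rfl) | exact rfl⟩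
private noncomputable def _root_.Cfsg.Agent.LsF.f768418_34 : {f // @Cfsg.Agent.H682.KB.D10.cw = f} := ⟨_, by first | (delta Cfsg.Agent.H682.KB.D10.cw; rewrite [Cfsg.Agent.LsF.f768418_16.2, Cfsg.Agent.LsF.ineg_pat]; exact rfl) | exact rfl⟩
theorem hB : ∀ (k : Fin 3) (i m : Fin 8), BB k.succ i m = ∑ j, BB k.castSucc i j * hd H682.KB.D10.cw m j := by (refine of_decide_eq_true ?_; (try (rewrite [Cfsg.Agent.LsF.f768418_33.2, Cfsg.Agent.LsF.f768418_22.2, Cfsg.Agent.LsF.f768418_34.2, Cfsg.Agent.LsF.imul_pat, Cfsg.Agent.LsF.finFintype_eq, Cfsg.Agent.LsF.fsum_eq, Cfsg.Agent.LsF.iACM_eq, Cfsg.Agent.LsF.instIDecEq_eq, Cfsg.Agent.LsF.dForallFin_eq, Cfsg.Agent.LsF.decide_eq])); decide +kernel)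

theorem hn1 : (Finset.univ.filter fun s : Fin chevE8.nroots => ∀ k : Fin 4, bil (BB k) (vec chevE8 8 s) (vec chevE8 8 s) =
    bil (BB k) (vec chevE8 8 s₁) (vec chevE8 8 s₁)).card ≤ 120 :=
  (E8F.hn1_eq _ _).trans_le (by (refine of_decide_eq_true ?_; (try (rewrite [Cfsg.Agent.LsF.f768418_24.2, Cfsg.Agent.LsF.f768418_33.2, Cfsg.Agent.LsF.f768418_4.2, Cfsg.Agent.LsF.f768418_5.2, Cfsg.Agent.LsF.decLe_eq, Cfsg.Agent.LsF.all_eq, Cfsg.Agent.LsF.countP_eq, Cfsg.Agent.LsF.instIDecEq_eq, Cfsg.Agent.LsF.decide_eq])); decide +kernel))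

theorem hn2 : (Finset.univ.filter fun s : Fin chevE8.nroots => ∀ k : Fin 4, bil (BB k) (vec chevE8 8 s) (vec chevE8 8 s) =
    bil (BB k) (vec chevE8 8 (sx 1)) (vec chevE8 8 (sx 1)) ∧ bil (BB k) (vec chevE8 8 s) (vec chevE8 8 s₁) =
    bil (BB k) (vec chevE8 8 (sx 1)) (vec chevE8 8 s₁)).card ≤ 5 :=
  (E8F.hn2_eq _ _ _).trans_le (by decide +kernel)

theorem cenB : ∀ s : Fin chevE8.nroots, dq (vec chevE8 8 s) H682.KB.D10.B = (0, 0, 0, 0) ∨
    okU P C (dq (vec chevE8 8 s) H682.KB.D10.B) = true :=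
  E8F.cen_of (by ((try (rewrite [Cfsg.Agent.LsF.f768418_5.2, Cfsg.Agent.LsF.f768418_7.2, Cfsg.Agent.LsF.f768418_14.2, Cfsg.Agent.LsF.dProdEq_eq, Cfsg.Agent.LsF.or_eq, Cfsg.Agent.LsF.all_eq, Cfsg.Agent.LsF.instIDecEq_eq, Cfsg.Agent.LsF.decide_eq])); decide +kernel))

theorem cardB : 0 < (Finset.univ.filter fun s : Fin chevE8.nroots =>
    dq (vec chevE8 8 s) H682.KB.D10.B = (0, 0, 0, 0)).card :=
  lt_of_lt_of_eq (by decide +kernel) (E8F.cardB_eq _).symm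

end D10

namespace D12

/-- the relation -/
def P : Q4 := (-1, 0, 1, 0)

/-- the conjugates -/
def C : List (Q4 × Q4 × Q4) := [((0, -1, 0, 1), (1, 0, -1, 0), (0, 0, 0, 1)), ((0, -1, 0, 0), (0, 0, 1, 0), (0, 0, 0, -1)), ((0, 1, 0, -1), (1, 0, -1, 0), (0, 0, 0, -1))]

def V₁ : List Q4 := [(0, 0, 0, 1), (0, 1, -1, 0), (0, 0, 1, -1), (1, -1, -1, 1), (-1, 0, 1, -1), (0, 0, 0, 1), (0, 1, 0, -1), (-1, 0, 0, 0)]

def V₂ : List Q4 := [(1, -1, -1, 0), (1, -1, -1, 2), (-1, 0, 1, 0), (0, 0, 1, -1), (0, 1, -1, 0), (0, 0, 0, 0), (-1, 0, 0, 0), (1, 0, 0, 0)]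

/-- the root kernels -/
def R : List (Q4 × Q4) := [((1, 0, 0, 0), (0, 0, 0, 0)), ((0, 0, 0, 0), (1, 0, 0, 0)), ((-1, 1, 1, -1), (0, 1, -1, 0)), ((0, 0, 1, -1), (-1, 1, 1, -1)), ((0, 1, 0, -1), (0, 0, 0, 1)), ((0, 1, 0, -1), (-1, 1, 0, 0)), ((-1, 1, 0, -1), (0, 1, 0, 0)), ((0, 0, 1, 0), (0, 0, 0, -1)), ((0, 1, 0, 0), (1, -1, -1, 1)), ((-1, 1, 0, 0), (1, 0, -1, 0)), ((0, 1, 1, -1), (-1, 0, 0, 0)), ((-1, 0, 0, 0), (1, 1, -1, 0)), ((0, 0, 0, -1), (0, 0, 1, 0)), ((0, 1, 0, 0), (0, -1, 0, 0))]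

def B1 : Mat 8 := _root_.Cfsg.Agent.H682.KB.mt [[1, -1, 0, 0, 0, 0, 1, -1], [-1, -1, 1, 1, -1, 0, 0, 0], [-1, 1, 0, 0, -1, 1, 0, 0], [0, 0, 0, -1, 2, -1, 0, 0], [1, 0, -1, 1, -1, 0, 0, 1], [0, 0, 1, -1, 0, 1, -1, 0], [0, 1, 0, 0, 0, -1, 1, -1], [0, -1, -1, 1, 0, 1, -1, 0]]

def B2 : Mat 8 := _root_.Cfsg.Agent.H682.KB.mt [[1, 1, 0, -1, 0, 0, 1, -1], [-1, 1, 0, -1, 1, 0, 0, 0], [-1, 0, 1, 0, 0, 0, -1, 0], [1, 0, -1, 1, -1, 0, 0, 1], [0, -1, 0, 0, 1, 0, 0, -1], [0, 0, 0, 0, -1, 1, 0, 0], [-1, 0, 1, 0, 0, -1, 1, 0], [1, 0, 0, -1, 1, 0, -1, 1]]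

def B3 : Mat 8 := _root_.Cfsg.Agent.H682.KB.mt [[0, 0, 1, 0, -1, 0, 1, -1], [0, 0, 0, 1, -1, 0, -1, 1], [-1, 0, 0, 0, 0, 0, 0, 1], [0, -1, 0, 0, 1, 0, 0, -1], [1, 1, 0, -1, 0, 0, 0, 1], [0, 0, 0, 0, 0, 0, 0, -1], [-1, 1, 0, 0, 0, 0, 0, 0], [1, -1, -1, 1, -1, 1, 0, 0]]

def BB : Fin 4 → Mat 8 := ![Am, B1, B2, B3]

theorem eV₁ : EigQ P (hd H682.KB.D12.cw) (0, 1, 0, 0) V₁ := by decide +kernel

theorem eV₂ : EigQ P (hd H682.KB.D12.cw) (0, 1, 0, 0) V₂ := by decide +kernel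

theorem h11 : dq (vec chevE8 8 s₁) V₁ = (1, 0, 0, 0) := by decide +kernel

theorem h12 : dq (vec chevE8 8 s₁) V₂ = (0, 0, 0, 0) := by decide +kernel

theorem h21 : dq (vec chevE8 8 (sx 1)) V₁ = (0, 0, 0, 0) := by decide +kernel

theorem h22 : dq (vec chevE8 8 (sx 1)) V₂ = (1, 0, 0, 0) := by decide +kernel

theorem hR : ∀ s : Fin chevE8.nroots, (okU P C (dq (vec chevE8 8 s) V₁) = true ∨ okU P C (dq (vec chevE8 8 s) V₂) = true) ∧
    ∃ ρ ∈ R, mul4 P (dq (vec chevE8 8 s) V₁) ρ.2 = mul4 P (dq (vec chevE8 8 s) V₂) ρ.1 :=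
  E8F.hR_of (by ((try (rewrite [Cfsg.Agent.LsF.f768418_5.2, Cfsg.Agent.LsF.f768418_7.2, Cfsg.Agent.LsF.f768418_14.2, Cfsg.Agent.LsF.f768418_15.2, Cfsg.Agent.LsF.dProdEq_eq, Cfsg.Agent.LsF.and_eq, Cfsg.Agent.LsF.or_eq, Cfsg.Agent.LsF.all_eq, Cfsg.Agent.LsF.any_eq, Cfsg.Agent.LsF.instIDecEq_eq, Cfsg.Agent.LsF.decide_eq])); decide +kernel))

theorem hRu : ∀ ρ ∈ R, okU P C ρ.1 = true ∨ okU P C ρ.2 = true := by decide +kernel

private noncomputable def _root_.Cfsg.Agent.LsF.f768418_35 : {f // @Cfsg.Agent.H208.XR.D12.B1 = f} := ⟨_, by first | (delta Cfsg.Agent.H208.XR.D12.B1; rewrite [Cfsg.Agent.LsF.f768418_16.2, Cfsg.Agent.LsF.ineg_pat]; exact rfl) | exact rfl⟩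
private noncomputable def _root_.Cfsg.Agent.LsF.f768418_36 : {f // @Cfsg.Agent.H208.XR.D12.B2 = f} := ⟨_, by first | (delta Cfsg.Agent.H208.XR.D12.B2; rewrite [Cfsg.Agent.LsF.f768418_16.2, Cfsg.Agent.LsF.ineg_pat]; exact rfl) | exact rfl⟩
private noncomputable def _root_.Cfsg.Agent.LsF.f768418_37 : {f // @Cfsg.Agent.H208.XR.D12.B3 = f} := ⟨_, by first | (delta Cfsg.Agent.H208.XR.D12.B3; rewrite [Cfsg.Agent.LsF.f768418_16.2, Cfsg.Agent.LsF.ineg_pat]; exact rfl) | exact rfl⟩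
private noncomputable def _root_.Cfsg.Agent.LsF.f768418_38 : {f // @Cfsg.Agent.H208.XR.D12.BB = f} := ⟨_, by first | (delta Cfsg.Agent.H208.XR.D12.BB; rewrite [Cfsg.Agent.LsF.f768418_17.2, Cfsg.Agent.LsF.f768418_35.2, Cfsg.Agent.LsF.f768418_36.2, Cfsg.Agent.LsF.f768418_37.2, Cfsg.Agent.LsF.vecCons_eq]; exact rfl) | exact rfl⟩
private noncomputable def _root_.Cfsg.Agent.LsF.f768418_39 : {f // @Cfsg.Agent.H682.KB.D12.cw = f} := ⟨_, by first | (delta Cfsg.Agent.H682.KB.D12.cw; rewrite [Cfsg.Agent.LsF.f768418_16.2, Cfsg.Agent.LsF.ineg_pat]; exact rfl) | exact rfl⟩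
theorem hB : ∀ (k : Fin 3) (i m : Fin 8), BB k.succ i m = ∑ j, BB k.castSucc i j * hd H682.KB.D12.cw m j := by (refine of_decide_eq_true ?_; (try (rewrite [Cfsg.Agent.LsF.f768418_38.2, Cfsg.Agent.LsF.f768418_22.2, Cfsg.Agent.LsF.f768418_39.2, Cfsg.Agent.LsF.imul_pat, Cfsg.Agent.LsF.finFintype_eq, Cfsg.Agent.LsF.fsum_eq, Cfsg.Agent.LsF.iACM_eq, Cfsg.Agent.LsF.instIDecEq_eq, Cfsg.Agent.LsF.dForallFin_eq, Cfsg.Agent.LsF.decide_eq])); decide +kernel)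

theorem hn1 : (Finset.univ.filter fun s : Fin chevE8.nroots => ∀ k : Fin 4, bil (BB k) (vec chevE8 8 s) (vec chevE8 8 s) =
    bil (BB k) (vec chevE8 8 s₁) (vec chevE8 8 s₁)).card ≤ 72 :=
  (E8F.hn1_eq _ _).trans_le (by (refine of_decide_eq_true ?_; (try (rewrite [Cfsg.Agent.LsF.f768418_24.2, Cfsg.Agent.LsF.f768418_38.2, Cfsg.Agent.LsF.f768418_4.2, Cfsg.Agent.LsF.f768418_5.2, Cfsg.Agent.LsF.decLe_eq, Cfsg.Agent.LsF.all_eq, Cfsg.Agent.LsF.countP_eq, Cfsg.Agent.LsF.instIDecEq_eq, Cfsg.Agent.LsF.decide_eq])); decide +kernel))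

theorem hn2 : (Finset.univ.filter fun s : Fin chevE8.nroots => ∀ k : Fin 4, bil (BB k) (vec chevE8 8 s) (vec chevE8 8 s) =
    bil (BB k) (vec chevE8 8 (sx 1)) (vec chevE8 8 (sx 1)) ∧ bil (BB k) (vec chevE8 8 s) (vec chevE8 8 s₁) =
    bil (BB k) (vec chevE8 8 (sx 1)) (vec chevE8 8 s₁)).card ≤ 4 :=
  (E8F.hn2_eq _ _ _).trans_le (by (refine of_decide_eq_true ?_; (try (rewrite [Cfsg.Agent.LsF.f768418_24.2, Cfsg.Agent.LsF.f768418_38.2, Cfsg.Agent.LsF.f768418_4.2, Cfsg.Agent.LsF.f768418_5.2, Cfsg.Agent.LsF.and_eq, Cfsg.Agent.LsF.decLe_eq, Cfsg.Agent.LsF.all_eq, Cfsg.Agent.LsF.countP_eq, Cfsg.Agent.LsF.instIDecEq_eq, Cfsg.Agent.LsF.decide_eq])); decide +kernel))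

theorem cenB : ∀ s : Fin chevE8.nroots, dq (vec chevE8 8 s) H682.KB.D12.B = (0, 0, 0, 0) ∨
    okU P C (dq (vec chevE8 8 s) H682.KB.D12.B) = true :=
  E8F.cen_of (by ((try (rewrite [Cfsg.Agent.LsF.f768418_5.2, Cfsg.Agent.LsF.f768418_7.2, Cfsg.Agent.LsF.f768418_14.2, Cfsg.Agent.LsF.dProdEq_eq, Cfsg.Agent.LsF.or_eq, Cfsg.Agent.LsF.all_eq, Cfsg.Agent.LsF.instIDecEq_eq, Cfsg.Agent.LsF.decide_eq])); decide +kernel))

theorem cenB' : ∀ s : Fin chevE8.nroots, dq (vec chevE8 8 s) H682.KB.D12.B' = (0, 0, 0, 0) ∨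
    okU P C (dq (vec chevE8 8 s) H682.KB.D12.B') = true :=
  E8F.cen_of (by ((try (rewrite [Cfsg.Agent.LsF.f768418_5.2, Cfsg.Agent.LsF.f768418_7.2, Cfsg.Agent.LsF.f768418_14.2, Cfsg.Agent.LsF.dProdEq_eq, Cfsg.Agent.LsF.or_eq, Cfsg.Agent.LsF.all_eq, Cfsg.Agent.LsF.instIDecEq_eq, Cfsg.Agent.LsF.decide_eq])); decide +kernel))

end D12

end Cfsg.Agent.H208.XR
end

-- part: H208/XR/E8Core
section
/-!
# `E₈`, `d = 5, 8, 10, 12`: heights and `k_J` (S4791, S4927; helper208)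
-/

set_option autoImplicit false
set_option linter.unusedSectionVars false

namespace Cfsg.Agent.H208.XR

open CoxeterSystem Cfsg Cfsg.Lie Cfsg.Lie.ChevalleyDatum
open Cfsg.Agent.ChevalleyStructure Cfsg.Agent.ChevalleyStructure.Elts Cfsg.Agent.ChevalleyStructure.CoxeterGeom
  Cfsg.Agent.ChevalleyStructure.CoxeterGeomTypes Cfsg.Agent.ChevalleyStructure.NPerm
open Cfsg.Agent.Tits.Roots Cfsg.Agent.Tits.Core Cfsg.Agent.Nodes Cfsg.Agent.Nodes.Reps Cfsg.Agent.Nodes.BNOf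
  Cfsg.Agent.Nodes.RGDChev Cfsg.Agent.Nodes.Bruhat
open Cfsg.Agent.H129.TorusChar Cfsg.Agent.H129.WData Cfsg.Agent.H210.EL Cfsg.Agent.H440.TD4
open Cfsg.Agent.H942.E8Tab
open Cfsg.Agent.H682.KB
open Cfsg.Agent.H944.RootVals (ms)
open Cfsg.Agent.H674.XZ Cfsg.Agent.H508.XR

universe u v

variable {p : ℕ} [hpp : Fact p.Prime] {Mx : Ideal AlgInt} {F : Type} [Field F] [Fintype F] {S : Type u} [Group S]

theorem not_dvd_W8 (h11 : 11 ≤ p) : ¬ p ∣ Nat.card CoxeterMatrix.E₈.Group := by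
  intro h
  rw [Cfsg.Agent.S1093.result (⟨8, CoxeterMatrix.E₈⟩, 696729600) (by simp)] at h
  have h2 : p ∈ [2, 2, 2, 2, 2, 2, 2, 2, 2, 2, 2, 2, 2, 2, 3, 3, 3, 3, 3, 5, 5, 7] :=
    dvd_cases (by norm_num only [List.mem_cons, List.not_mem_nil, or_false, or_self_left, forall_eq_or_imp, forall_eq, and_self]) (by norm_num; exact h)
  simp only [List.mem_cons, List.not_mem_nil, or_false] at h2
  omega

/-- the data of the eigenspace -/
structure Sp (P : Q4) (W : Mat 8) (V₁ V₂ : List Q4) (t₁ t₂ : Fin chevE8.nroots) (C : List (Q4 × Q4 × Q4))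
    (R : List (Q4 × Q4)) (B : Fin 4 → Mat 8) (n₁ n₂ : ℕ) : Prop where
  e1 : EigQ P W (0, 1, 0, 0) V₁
  e2 : EigQ P W (0, 1, 0, 0) V₂
  h11 : dq (vec chevE8 8 t₁) V₁ = (1, 0, 0, 0)
  h12 : dq (vec chevE8 8 t₁) V₂ = (0, 0, 0, 0)
  h21 : dq (vec chevE8 8 t₂) V₁ = (0, 0, 0, 0)
  h22 : dq (vec chevE8 8 t₂) V₂ = (1, 0, 0, 0)
  hR : ∀ s : Fin chevE8.nroots, (okU P C (dq (vec chevE8 8 s) V₁) = true ∨ okU P C (dq (vec chevE8 8 s) V₂) = true) ∧
    ∃ ρ ∈ R, mul4 P (dq (vec chevE8 8 s) V₁) ρ.2 = mul4 P (dq (vec chevE8 8 s) V₂) ρ.1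
  hRu : ∀ ρ ∈ R, okU P C ρ.1 = true ∨ okU P C ρ.2 = true
  b0 : B 0 = Am
  hB : ∀ (k : Fin 3) (i m : Fin 8), B k.succ i m = ∑ j, B k.castSucc i j * W m j
  hn1 : (Finset.univ.filter fun s : Fin chevE8.nroots => ∀ k : Fin 4, bil (B k) (vec chevE8 8 s) (vec chevE8 8 s) =
    bil (B k) (vec chevE8 8 t₁) (vec chevE8 8 t₁)).card ≤ n₁
  hn2 : (Finset.univ.filter fun s : Fin chevE8.nroots => ∀ k : Fin 4, bil (B k) (vec chevE8 8 s) (vec chevE8 8 s) =
    bil (B k) (vec chevE8 8 t₂) (vec chevE8 8 t₂) ∧ bil (B k) (vec chevE8 8 s) (vec chevE8 8 t₁) =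
    bil (B k) (vec chevE8 8 t₂) (vec chevE8 8 t₁)).card ≤ n₂

/-- the data of a line -/
structure LD (P : Q4) (cw cv : List (Fin 8 × Mat 8)) (s : Q4) (B A : List Q4) (C : List (Q4 × Q4 × Q4)) : Prop where
  ok : ChainOK Am cv
  comm : CommOK (hd cv) (hd cw)
  eb : EigQ P (hd cw) (0, 1, 0, 0) B
  ea : EigQ P (hd cw) (0, 1, 0, 0) A
  evb : EigQ P (hd cv) (1, 0, 0, 0) B
  eva : EigQ P (hd cv) s A
  ib : ∃ i : Fin 8, B.getD i (0, 0, 0, 0) = (1, 0, 0, 0)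
  ia : ∃ i : Fin 8, A.getD i (0, 0, 0, 0) = (1, 0, 0, 0)
  cen : ∀ s : Fin chevE8.nroots, dq (vec chevE8 8 s) B = (0, 0, 0, 0) ∨ okU P C (dq (vec chevE8 8 s) B) = true

/-- the word -/
abbrev wd (c : List (Fin 8 × Mat 8)) : CoxeterMatrix.E₈.Group :=
  CoxeterMatrix.E₈.toCoxeterSystem.wordProd (c.map Prod.fst)

theorem Sp.two {P : Q4} {cw : List (Fin 8 × Mat 8)} (hcw : ChainOK Am cw) {V₁ V₂ : List Q4}
    {t₁ t₂ : Fin chevE8.nroots} {C : List (Q4 × Q4 × Q4)} {R : List (Q4 × Q4)} {B : Fin 4 → Mat 8} {n₁ n₂ : ℕ}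
    (h : Sp P (hd cw) V₁ V₂ t₁ t₂ C R B n₁ n₂) : Two e8T' (AddEquiv.refl (Fin 8 → ℤ)) (wd cw) P V₁ V₂ t₁ t₂ :=
  ⟨⟨hd cw, fun j => chain_rep e8T' _ hA hcw j, h.e1, h.e2⟩, h.h11, h.h12, h.h21, h.h22⟩

/-- the model -/
theorem exists_mod (h11 : 11 ≤ p) (hpF : (p : F) ≠ 0) (f : ↥(chevE8.group F) ≃* S) (a : ℕ)
    (w : CoxeterMatrix.E₈.Group) : ∃ X : (Fin 8 → ZMod (p ^ a)) → S,
      ModelN e8T' (p ^ a) (Fintype.card F) (AddEquiv.refl (Fin 8 → ℤ)) w X := by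
  obtain ⟨X, hX⟩ := exists_modelN_untw (a := a) e8T' hpF (not_dvd_W8 h11) invC_E8 w
  exact ⟨_, hX.map f⟩

section

variable {a Q : ℕ} {cw : List (Fin 8 × Mat 8)} {X : (Fin 8 → ZMod (p ^ a)) → S}
  (H : ModelN e8T' (p ^ a) Q (AddEquiv.refl (Fin 8 → ℤ)) (wd cw) X) [Finite S]

include H in
/-- **Heights.** -/
theorem x0_eq (hM : IsPModular p Mx) (ha : a ≠ 0) (h11 : 11 ≤ p) (hG : ¬ p ^ (2 * a + 1) ∣ Nat.card S)
    (hcw : ChainOK Am cw) {P : Q4} {V₁ V₂ : List Q4}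
    {t₁ t₂ : Fin chevE8.nroots} {C : List (Q4 × Q4 × Q4)} {R : List (Q4 × Q4)} {B : Fin 4 → Mat 8} {n₁ n₂ : ℕ}
    (h : Sp P (hd cw) V₁ V₂ t₁ t₂ C R B n₁ n₂) (hq : (Q : ZMod (p ^ a)) ^ 4 = ev (Q : ZMod (p ^ a)) P)
    (hn : a = 1 ∨ n₁ * n₂ + R.length < p ^ 2) : x0 p Mx S = kJ p Mx S := by
  refine x0_eq_kJ_of_two H hM ha (by omega) hG (h.two hcw) hq h.hR h.hRu
    (fun j => chain_rep e8T' _ hA hcw j) (fun v x y => ?_) h.hB h.hn1 h.hn2 hn
  rw [h.b0]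
  exact bil_rep e8T' hA Am_symm Am_two v x y

include H in
/-- the order of a Sylow subgroup -/
theorem pow_dvd_card (hG : ¬ p ^ (2 * a + 1) ∣ Nat.card S)
    (hcw : ChainOK Am cw) {P : Q4} {V₁ V₂ : List Q4}
    {t₁ t₂ : Fin chevE8.nroots} {C : List (Q4 × Q4 × Q4)} {R : List (Q4 × Q4)} {B : Fin 4 → Mat 8} {n₁ n₂ : ℕ}
    (h : Sp P (hd cw) V₁ V₂ t₁ t₂ C R B n₁ n₂) (hq : (Q : ZMod (p ^ a)) ^ 4 = ev (Q : ZMod (p ^ a)) P) :
    p ^ (2 * a) ∣ Nat.card S := by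
  obtain ⟨hL, -, -⟩ := exists_sylow H ((h.two hcw).le_card_Lam hq) hG
  rw [← hL, ← card_toSub H]
  exact (toSub H).card_subgroup_dvd_card

include H in
/-- **The line.** -/
theorem line_of (hM : IsPModular p Mx) (ha : a ≠ 0) (h11 : 11 ≤ p) (hG : ¬ p ^ (2 * a + 1) ∣ Nat.card S)
    (hcw : ChainOK Am cw) {P : Q4} {cv : List (Fin 8 × Mat 8)} {s : Q4} {B A : List Q4}
    {C : List (Q4 × Q4 × Q4)} (h : LD P cw cv s B A C)
    (hq : (Q : ZMod (p ^ a)) ^ 4 = ev (Q : ZMod (p ^ a)) P) (hq1 : (Q : ZMod (p ^ 1)) ^ 4 = ev (Q : ZMod (p ^ 1)) P)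
    {n : ℕ} (hn : (n : ZMod (p ^ a)) * ev (Q : ZMod (p ^ a)) s = 1) {e : ℕ}
    (hfus : ∀ i : ℕ, ¬ p ∣ i → ms chevE8 8 (fun n : Fin 8 => ((1 : ℕ) : ZMod (p ^ 1)) * vv (Q : ZMod (p ^ 1)) B n) =
      ms chevE8 8 (fun n : Fin 8 => (i : ZMod (p ^ 1)) * vv (Q : ZMod (p ^ 1)) B n) → (i : ZMod p) ^ e = 1) :
    Ln p Mx (X (up p a (vv (Q : ZMod (p ^ 1)) B))) e (orderOf (n : ZMod p)) := by
  obtain ⟨ib, hib⟩ := h.ib
  obtain ⟨ia, hia⟩ := h.ia
  have hW : ∀ j, rep CoxeterMatrix.E₈.toCoxeterSystem e8T'.isCartan (wd cw) ((AddEquiv.refl (Fin 8 → ℤ)) (sr j)) = hd cw j :=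
    fun j => chain_rep e8T' _ hA hcw j
  have h1 : lam (vv (Q : ZMod (p ^ a)) B : Fin 8 → ZMod (p ^ a)) (sr ib) = 1 := by
    rw [lam_sr]
    unfold vv
    rw [hib]
    exact ev_one
  have h2 : lam (vv (Q : ZMod (p ^ a)) A : Fin 8 → ZMod (p ^ a)) (sr ia) = 1 := by
    rw [lam_sr]
    unfold vv
    rw [hia]
    exact ev_one
  have key := exists_line H hM ha hG (c := vv (Q : ZMod (p ^ a)) B) (y := vv (Q : ZMod (p ^ a)) A)
    (vv_mem hW hq h.eb) (vv_mem hW hq h.ea) (h1 ▸ isUnit_one) (h2 ▸ isUnit_one)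
    (Cth_of_comm e8T' hA hcw h.ok h.comm)
    (fun x => by
      have h3 := lam_rep_vv e8T' hA h.ok hq h.evb x
      rwa [ev_one, one_mul] at h3) (lam_rep_vv e8T' hA h.ok hq h.eva) hn
    (fun s => by
      rcases h.cen s with h3 | h3
      · left
        rw [lam_vv, h3]
        exact ev_zero
      · right
        rw [red_vv ha, lam_vv]
        have : Fact (1 < p ^ 1) := ⟨by rw [pow_one]; exact hpp.out.one_lt⟩
        exact (isUnit_of_okU one_ne_zero (by omega) hq1 h3).ne_zero) (e := e)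
    (fun i hpi hi => hfus i hpi (by
      rw [red_vv ha] at hi
      rw [← hi]
      congr 1
      funext n
      rw [Nat.cast_one, one_mul]))
  rwa [red_vv ha] at key

include H in
/-- `2 ≤ l(B₀)` -/
theorem two_le_of (hM : IsPModular p Mx) (ha : a ≠ 0)
    (hcw : ChainOK Am cw) {P : Q4} {cv : List (Fin 8 × Mat 8)} {s : Q4} {B A : List Q4}
    {C : List (Q4 × Q4 × Q4)} (h : LD P cw cv s B A C)
    (hq : (Q : ZMod (p ^ a)) ^ 4 = ev (Q : ZMod (p ^ a)) P)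
    {n : ℕ} (hn : (n : ZMod (p ^ a)) * ev (Q : ZMod (p ^ a)) s = 1) (hn1 : (n : ZMod p) ≠ 1) :
    2 ≤ blockRank p (principalBlock Mx S) := by
  obtain ⟨ia, hia⟩ := h.ia
  have hW : ∀ j, rep CoxeterMatrix.E₈.toCoxeterSystem e8T'.isCartan (wd cw) ((AddEquiv.refl (Fin 8 → ℤ)) (sr j)) = hd cw j :=
    fun j => chain_rep e8T' _ hA hcw j
  have h2 : lam (vv (Q : ZMod (p ^ a)) A : Fin 8 → ZMod (p ^ a)) (sr ia) = 1 := by
    rw [lam_sr]
    unfold vv
    rw [hia]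
    exact ev_one
  exact two_le_of_line H hM ha (vv_mem hW hq h.ea) (h2 ▸ isUnit_one) (Cth_of_comm e8T' hA hcw h.ok h.comm)
    (lam_rep_vv e8T' hA h.ok hq h.eva) hn hn1

include H in
/-- **A line and a regular element.** -/
theorem kJ_add_reg (hM : IsPModular p Mx) (ha : a ≠ 0) (h11 : 11 ≤ p)
    (hcw : ChainOK Am cw) {P : Q4} {V₁ V₂ : List Q4}
    {t₁ t₂ : Fin chevE8.nroots} {C : List (Q4 × Q4 × Q4)} {R : List (Q4 × Q4)} {BB : Fin 4 → Mat 8} {n₁ n₂ : ℕ}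
    (h : Sp P (hd cw) V₁ V₂ t₁ t₂ C R BB n₁ n₂)
    (hq1 : (Q : ZMod (p ^ 1)) ^ 4 = ev (Q : ZMod (p ^ 1)) P) {B : List Q4} (hB : EigQ P (hd cw) (0, 1, 0, 0) B)
    (hR : R.length < p) (hcB : 0 < (Finset.univ.filter fun s : Fin chevE8.nroots =>
      dq (vec chevE8 8 s) B = (0, 0, 0, 0)).card) {e b : ℕ}
    (L : Ln p Mx (X (up p a (vv (Q : ZMod (p ^ 1)) B))) e b) :
    (p - 1) / e * b + 1 + blockRank p (principalBlock Mx S) ≤ kJ p Mx S := by
  have hW : ∀ j, rep CoxeterMatrix.E₈.toCoxeterSystem e8T'.isCartan (wd cw) ((AddEquiv.refl (Fin 8 → ℤ)) (sr j)) = hd cw j :=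
    fun j => chain_rep e8T' _ hA hcw j
  have hreg := (h.two hcw).card_reg (a := 1) (Q := Q) one_ne_zero (by omega) hq1 R h.hR h.hRu
  have hne : (LamReg e8T' (p ^ 1) Q (AddEquiv.refl (Fin 8 → ℤ)) (wd cw)).Nonempty := by
    by_contra hcon
    rw [Set.not_nonempty_iff_eq_empty] at hcon
    rw [hcon, Nat.card_of_isEmpty (α := ↥(∅ : Set (Fin 8 → ZMod (p ^ 1)))), zero_add, pow_one, mul_one, sq] at hreg
    exact absurd (Nat.le_of_mul_le_mul_right hreg hpp.out.pos) (by omega)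
  obtain ⟨z, hz, hzr⟩ := hne
  have hz0 : z ≠ 0 := by
    rintro rfl
    refine hzr t₁ ?_
    unfold lam
    simp
  refine H76.KJ.kJ_of_elt_add (by omega) hM _ L.ord e b L.fus L.rank _ (orderOf_up H ha hz hz0)
    (not_conj_pow H ha (vv_mem hW hq1 hB) hz (n := 0) ?_ ?_)
  · rw [Nat.le_zero, Finset.card_eq_zero, Finset.filter_eq_empty_iff]
    exact fun s _ => hzr s
  · refine hcB.trans_le (Finset.card_le_card fun s hs => ?_)
    rw [Finset.mem_filter] at hs ⊢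
    refine ⟨hs.1, ?_⟩
    rw [lam_vv, hs.2]
    exact ev_zero

end

end Cfsg.Agent.H208.XR
end

-- part: H208/XR/E8Final
section
/-!
# `E₈(q)`, `ord_p(q) ∈ {5, 8, 10, 12}`: `p + 5 ≤ 2 x₀` (S4791, S4927; helper208)
-/

set_option autoImplicit false
set_option linter.unusedSectionVars false

namespace Cfsg.Agent.H208.XR

open CoxeterSystem Cfsg Cfsg.Lie Cfsg.Lie.ChevalleyDatum
open Cfsg.Agent.ChevalleyStructure Cfsg.Agent.ChevalleyStructure.Elts Cfsg.Agent.ChevalleyStructure.CoxeterGeom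
  Cfsg.Agent.ChevalleyStructure.CoxeterGeomTypes Cfsg.Agent.ChevalleyStructure.NPerm
open Cfsg.Agent.Tits.Roots Cfsg.Agent.Tits.Core Cfsg.Agent.Nodes Cfsg.Agent.Nodes.Reps Cfsg.Agent.Nodes.BNOf
  Cfsg.Agent.Nodes.RGDChev Cfsg.Agent.Nodes.Bruhat
open Cfsg.Agent.H129.TorusChar Cfsg.Agent.H129.WData Cfsg.Agent.H210.EL Cfsg.Agent.H440.TD4
open Cfsg.Agent.H942.E8Tab
open Cfsg.Agent.H682.KB
open Cfsg.Agent.H944.Tab
open Cfsg.Agent.H944.RootVals (ms)
open Cfsg.Agent.H674.XZ Cfsg.Agent.H508.XR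

universe u v

theorem D5.sp : Sp D5.P (hd H682.KB.D5.cw) D5.V₁ D5.V₂ s₁ (sx 1) D5.C D5.R D5.BB 120 5 :=
  ⟨D5.eV₁, D5.eV₂, D5.h11, D5.h12, D5.h21, D5.h22, D5.hR, D5.hRu, rfl, D5.hB, D5.hn1, D5.hn2⟩

theorem D5.ld : LD D5.P H682.KB.D5.cw H682.KB.D5.cv (0, 1, 0, 0) H682.KB.D5.B H682.KB.D5.A D5.C :=
  ⟨H682.KB.D5.cv_ok, H682.KB.D5.comm, H682.KB.D5.eb, H682.KB.D5.ea, H682.KB.D5.evb, H682.KB.D5.eva, H682.KB.D5.ib,
    H682.KB.D5.ia, D5.cenB⟩

theorem D10.sp : Sp D10.P (hd H682.KB.D10.cw) D10.V₁ D10.V₂ s₁ (sx 1) D10.C D10.R D10.BB 120 5 :=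
  ⟨D10.eV₁, D10.eV₂, D10.h11, D10.h12, D10.h21, D10.h22, D10.hR, D10.hRu, rfl, D10.hB, D10.hn1, D10.hn2⟩

theorem D10.ld : LD D10.P H682.KB.D10.cw H682.KB.D10.cv (0, 0, 0, -1) H682.KB.D10.B H682.KB.D10.A D10.C :=
  ⟨H682.KB.D10.cv_ok, H682.KB.D10.comm, H682.KB.D10.eb, H682.KB.D10.ea, H682.KB.D10.evb, H682.KB.D10.eva,
    H682.KB.D10.ib, H682.KB.D10.ia, D10.cenB⟩

theorem D8.sp : Sp D8.P (hd H682.KB.D8.cw) D8.V₁ D8.V₂ s₁ (sx 4) D8.C D8.R D8.BB 48 4 :=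
  ⟨D8.eV₁, D8.eV₂, D8.h11, D8.h12, D8.h21, D8.h22, D8.hR, D8.hRu, rfl, D8.hB, D8.hn1, D8.hn2⟩

theorem D8.ld : LD D8.P H682.KB.D8.cw H682.KB.D8.cv (0, 0, -1, 0) H682.KB.D8.B H682.KB.D8.A D8.C :=
  ⟨H682.KB.D8.cv_ok, H682.KB.D8.comm, H682.KB.D8.eb, H682.KB.D8.ea, H682.KB.D8.evb, H682.KB.D8.eva,
    H682.KB.D8.ib, H682.KB.D8.ia, D8.cenB⟩

theorem D12.sp : Sp D12.P (hd H682.KB.D12.cw) D12.V₁ D12.V₂ s₁ (sx 1) D12.C D12.R D12.BB 72 4 :=
  ⟨D12.eV₁, D12.eV₂, D12.h11, D12.h12, D12.h21, D12.h22, D12.hR, D12.hRu, rfl, D12.hB, D12.hn1, D12.hn2⟩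

theorem D12.ld : LD D12.P H682.KB.D12.cw H682.KB.D12.cv (0, 0, 0, 1) H682.KB.D12.B H682.KB.D12.A D12.C :=
  ⟨H682.KB.D12.cv_ok, H682.KB.D12.comm, H682.KB.D12.eb, H682.KB.D12.ea, H682.KB.D12.evb, H682.KB.D12.eva,
    H682.KB.D12.ib, H682.KB.D12.ia, D12.cenB⟩

theorem D12.ld' : LD D12.P H682.KB.D12.cw H682.KB.D12.cv' (-1, 0, 1, 0) H682.KB.D12.B' H682.KB.D12.A' D12.C :=
  ⟨H682.KB.D12.cv'_ok, H682.KB.D12.comm', H682.KB.D12.eb', H682.KB.D12.ea', H682.KB.D12.evb', H682.KB.D12.eva',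
    H682.KB.D12.ib', H682.KB.D12.ia', D12.cenB'⟩

variable {p : ℕ} [hpp : Fact p.Prime] {Mx : Ideal AlgInt} {F : Type} [Field F] [Fintype F] {S : Type u} [Group S]
  [Finite S]

theorem level_one {d : ℕ} (hd : orderOf (Fintype.card F : ZMod p) = d) : (Fintype.card F : ZMod (p ^ 1)) ^ d = 1 := by
  have hq : 1 < Fintype.card F := Fintype.one_lt_card
  apply qd_eq_one (by omega)
  rw [pow_one, ← CharP.cast_eq_zero_iff (ZMod p) p, Nat.cast_sub (Nat.one_le_pow _ _ (by omega)), sub_eq_zero,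
    Nat.cast_pow, Nat.cast_one, ← hd, pow_orderOf_eq_one]

theorem one_of_ten {i : ℕ} (hi : ¬ p ∣ i) (h11 : 11 ≤ p) (h5 : 5 ∣ p - 1)
    (h20 : ¬ p ∣ 2300100 → ((1 : ℕ) : ZMod p) ^ 20 = (i : ZMod p) ^ 20)
    (h30 : ¬ p ∣ 1144893750 → ((1 : ℕ) : ZMod p) ^ 30 = (i : ZMod p) ^ 30)
    (h50 : ¬ p ∣ 457212665937500 → ((1 : ℕ) : ZMod p) ^ 50 = (i : ZMod p) ^ 50) : (i : ZMod p) ^ 10 = 1 := by
  have h := ten_of (a := ((1 : ℕ) : ZMod p)) (b := (i : ZMod p)) (by rw [Nat.cast_one]; exact one_ne_zero)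
    (cast_ne_zero hi) h20 h30 h50 h11 h5
  rw [Nat.cast_one, one_pow] at h
  exact h.symm

/-- the arithmetic in rank two -/
theorem bound10 {k : ℕ} (h10 : 10 ∣ p - 1) (h : (p - 1) / 10 * 5 + 1 + 2 ≤ k) (h11 : 11 ≤ p) : p + 5 ≤ 2 * k := by
  obtain ⟨t, ht⟩ := h10
  rw [ht, Nat.mul_div_cancel_left _ (by norm_num)] at h
  (clear * - h11 h ht; omega)

theorem ge31 (h10 : 10 ∣ p - 1) (h : p ≠ 11) (h11 : 11 ≤ p) : 31 ≤ p := by
  by_contra hcon
  have h1 : p = 21 := by omega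
  rw [h1] at hpp
  exact absurd hpp.out (by norm_num)

theorem dvd_ten (h5 : 5 ∣ p - 1) (h11 : 11 ≤ p) : 10 ∣ p - 1 := by
  have h1 : p % 2 = 1 := (hpp.out.eq_two_or_odd).resolve_left (by omega)
  omega

theorem a_eq_one {a : ℕ} (ha : a ≠ 0) {n : ℕ} (h : p ^ (2 * a) ∣ n) (h3 : ¬ p ^ 3 ∣ n) : a = 1 := by
  by_contra hcon
  exact h3 ((pow_dvd_pow p (by omega)).trans h)

omit hpp in
theorem ev_pow' (K : List Bool) {R : Type*} [CommRing R] {q : R} {P : Q4} (hq : q ^ 4 = ev q P) {z : Q4} {n : ℕ}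
    (h1 : H682.KB.pwl P (0, 1, 0, 0) K (1, 0, 0, 0) = z) (h2 : H682.KB.bv K 0 = n) : ev q z = q ^ n :=
  h1 ▸ h2 ▸ H682.KB.ev_pow K hq

/-- **`d = 5`** -/
theorem x0_D5 (hM : IsPModular p Mx) (h11 : 11 ≤ p) (hpF : (p : F) ≠ 0)
    (hd : orderOf (Fintype.card F : ZMod p) = 5) (f : ↥(chevE8.group F) ≃* S) :
    (p ≠ 11 → p + 5 ≤ 2 * x0 p Mx S) ∧ (p = 11 → ¬ p ^ 3 ∣ Nat.card S → 7 ≤ x0 p Mx S) := by
  obtain ⟨m, hm, hS, hqd⟩ := exists_m h11 hd (by norm_num)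
  rw [Nat.card_congr f.toEquiv] at hS
  have hq := rel5 hm hd hqd
  have hq1 := rel5 one_ne_zero hd (level_one hd)
  have hp2 : p ≠ 2 := by omega
  have h5 : 5 ∣ p - 1 := dvd_sub_one hd (by norm_num)
  obtain ⟨X, H⟩ := exists_mod h11 hpF f m (wd H682.KB.D5.cw)
  have hn : ((Fintype.card F ^ 4 : ℕ) : ZMod (p ^ m)) * ev (Fintype.card F : ZMod (p ^ m)) (0, 1, 0, 0) = 1 := by
    rw [ev_x, Nat.cast_pow, ← pow_succ, hqd]
  have ho : orderOf ((Fintype.card F ^ 4 : ℕ) : ZMod p) = 5 := order_cast_pow hd (by norm_num)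
  have L := line_of H hM hm h11 hS H682.KB.D5.cw_ok D5.ld hq hq1 hn (e := 10) (fun i hi h1 =>
    one_of_ten hi h11 h5
      (fun hn => pow_eq_mod one_ne_zero hq1 hp2 tab8 len8 (by decide) h1 H682.KB.D5.ct20 hn)
      (fun hn => pow_eq_mod one_ne_zero hq1 hp2 tab8 len8 (by decide) h1 H682.KB.D5.ct30 hn)
      (fun hn => pow_eq_mod one_ne_zero hq1 hp2 tab8 len8 (by decide) h1 H682.KB.D5.ct50 hn))
  rw [ho] at L
  have h2 := two_le_of H hM hm H682.KB.D5.cw_ok D5.ld hq hn (by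
    intro h1
    rw [h1, orderOf_one] at ho
    omega)
  have h10 := dvd_ten h5 h11
  constructor
  · intro hne
    have h31 := ge31 h10 hne h11
    rw [x0_eq H hM hm h11 hS H682.KB.D5.cw_ok D5.sp hq (Or.inr (by
      show 120 * 5 + 12 < p ^ 2
      nlinarith only [h31]))]
    refine bound10 h10 (le_trans (Nat.add_le_add_left h2 _) ?_) h11
    exact kJ_add_reg H hM hm h11 H682.KB.D5.cw_ok D5.sp hq1 D5.ld.eb (by show 12 < p; omega) D5.cardB L
  · intro h11' h3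
    rw [x0_eq H hM hm h11 hS H682.KB.D5.cw_ok D5.sp hq (Or.inl
      (a_eq_one hm (pow_dvd_card H hS H682.KB.D5.cw_ok D5.sp hq) h3))]
    have h4 := H76.KJ.kJ_of_elt hp2 hM _ L.ord 10 5 L.fus L.rank
    subst h11'
    omega

/-- **`d = 10`** -/
theorem x0_D10 (hM : IsPModular p Mx) (h11 : 11 ≤ p) (hpF : (p : F) ≠ 0)
    (hd : orderOf (Fintype.card F : ZMod p) = 10) (f : ↥(chevE8.group F) ≃* S) :
    (p ≠ 11 → p + 5 ≤ 2 * x0 p Mx S) ∧ (p = 11 → ¬ p ^ 3 ∣ Nat.card S → 7 ≤ x0 p Mx S) := by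
  obtain ⟨m, hm, hS, hqd⟩ := exists_m h11 hd (by norm_num)
  rw [Nat.card_congr f.toEquiv] at hS
  have hq := rel10 hm hd hqd
  have hq1 := rel10 one_ne_zero hd (level_one hd)
  have hp2 : p ≠ 2 := by omega
  have h10 : 10 ∣ p - 1 := dvd_sub_one hd (by norm_num)
  obtain ⟨X, H⟩ := exists_mod h11 hpF f m (wd H682.KB.D10.cw)
  have hs : ev (Fintype.card F : ZMod (p ^ m)) (0, 0, 0, -1) = (Fintype.card F : ZMod (p ^ m)) ^ 8 :=
    ev_pow' [true, false, false, false] hq (by decide +kernel) rfl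
  have hn : ((Fintype.card F ^ 2 : ℕ) : ZMod (p ^ m)) * ev (Fintype.card F : ZMod (p ^ m)) (0, 0, 0, -1) = 1 := by
    rw [hs, Nat.cast_pow, ← pow_add, hqd]
  have ho : orderOf ((Fintype.card F ^ 2 : ℕ) : ZMod p) = 5 := order_cast_pow hd (by norm_num)
  have L := line_of H hM hm h11 hS H682.KB.D10.cw_ok D10.ld hq hq1 hn (e := 10) (fun i hi h1 =>
    one_of_ten hi h11 (by omega)
      (fun hn => pow_eq_mod one_ne_zero hq1 hp2 tab8 len8 (by decide) h1 H682.KB.D10.ct20 hn)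
      (fun hn => pow_eq_mod one_ne_zero hq1 hp2 tab8 len8 (by decide) h1 H682.KB.D10.ct30 hn)
      (fun hn => pow_eq_mod one_ne_zero hq1 hp2 tab8 len8 (by decide) h1 H682.KB.D10.ct50 hn))
  rw [ho] at L
  have h2 := two_le_of H hM hm H682.KB.D10.cw_ok D10.ld hq hn (by
    intro h1
    rw [h1, orderOf_one] at ho
    omega)
  constructor
  · intro hne
    have h31 := ge31 h10 hne h11
    rw [x0_eq H hM hm h11 hS H682.KB.D10.cw_ok D10.sp hq (Or.inr (by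
      show 120 * 5 + 12 < p ^ 2
      nlinarith only [h31]))]
    refine bound10 h10 (le_trans (Nat.add_le_add_left h2 _) ?_) h11
    exact kJ_add_reg H hM hm h11 H682.KB.D10.cw_ok D10.sp hq1 D10.ld.eb (by show 12 < p; omega) D10.cardB L
  · intro h11' h3
    rw [x0_eq H hM hm h11 hS H682.KB.D10.cw_ok D10.sp hq (Or.inl
      (a_eq_one hm (pow_dvd_card H hS H682.KB.D10.cw_ok D10.sp hq) h3))]
    have h4 := H76.KJ.kJ_of_elt hp2 hM _ L.ord 10 5 L.fus L.rank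
    subst h11'
    omega

/-- **`d = 8`** -/
theorem x0_D8 (hM : IsPModular p Mx) (h11 : 11 ≤ p) (hpF : (p : F) ≠ 0)
    (hd : orderOf (Fintype.card F : ZMod p) = 8) (f : ↥(chevE8.group F) ≃* S) :
    p + 5 ≤ 2 * x0 p Mx S := by
  obtain ⟨m, hm, hS, hqd⟩ := exists_m h11 hd (by norm_num)
  rw [Nat.card_congr f.toEquiv] at hS
  have hq := rel8 hm hd hqd
  have hq1 := rel8 one_ne_zero hd (level_one hd)
  have hp2 : p ≠ 2 := by omega
  have h8 : 8 ∣ p - 1 := dvd_sub_one hd (by norm_num)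
  obtain ⟨X, H⟩ := exists_mod h11 hpF f m (wd H682.KB.D8.cw)
  have hs : ev (Fintype.card F : ZMod (p ^ m)) (0, 0, -1, 0) = (Fintype.card F : ZMod (p ^ m)) ^ 6 :=
    ev_pow' [true, true, false] hq (by decide +kernel) rfl
  have hn : ((Fintype.card F ^ 2 : ℕ) : ZMod (p ^ m)) * ev (Fintype.card F : ZMod (p ^ m)) (0, 0, -1, 0) = 1 := by
    rw [hs, Nat.cast_pow, ← pow_add, hqd]
  have ho : orderOf ((Fintype.card F ^ 2 : ℕ) : ZMod p) = 4 := order_cast_pow hd (by norm_num)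
  have L := line_of H hM hm h11 hS H682.KB.D8.cw_ok D8.ld hq hq1 hn (e := 8) (fun i hi h1 => by
    have h3 := pow_eq_mod one_ne_zero hq1 hp2 tab8 len8 (by decide) h1 H682.KB.D8.ct8 (by
      intro hn
      have h2 : p ∈ [2, 2, 2, 2, 2, 2, 3, 3, 5] := dvd_cases (by norm_num) (by norm_num; exact hn)
      simp only [List.mem_cons, List.not_mem_nil, or_false] at h2
      omega)
    rw [Nat.cast_one, one_pow] at h3
    exact h3.symm)
  rw [ho] at L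
  have h2 := two_le_of H hM hm H682.KB.D8.cw_ok D8.ld hq hn (by
    intro h1
    rw [h1, orderOf_one] at ho
    omega)
  have h17 : 17 ≤ p := by omega
  rw [x0_eq H hM hm h11 hS H682.KB.D8.cw_ok D8.sp hq (Or.inr (by
      show 48 * 4 + 18 < p ^ 2
      nlinarith only [h17]))]
  have hV : (vv (Fintype.card F : ZMod (p ^ 1)) D8.V₁ : Fin 8 → ZMod (p ^ 1)) ∈
      Lam e8T' (p ^ 1) (Fintype.card F) (AddEquiv.refl (Fin 8 → ℤ)) (wd H682.KB.D8.cw) :=
    vv_mem (fun j => chain_rep e8T' _ hA H682.KB.D8.cw_ok j) hq1 D8.sp.e1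
  have hVB : (vv (Fintype.card F : ZMod (p ^ 1)) H682.KB.D8.B : Fin 8 → ZMod (p ^ 1)) ∈
      Lam e8T' (p ^ 1) (Fintype.card F) (AddEquiv.refl (Fin 8 → ℤ)) (wd H682.KB.D8.cw) :=
    vv_mem (fun j => chain_rep e8T' _ hA H682.KB.D8.cw_ok j) hq1 D8.ld.eb
  have hN : Fact (1 < p ^ 1) := ⟨by rw [pow_one]; exact hpp.out.one_lt⟩
  have hz0 : (vv (Fintype.card F : ZMod (p ^ 1)) D8.V₁ : Fin 8 → ZMod (p ^ 1)) ≠ 0 := by
    intro h0
    have h3 : lam (vv (Fintype.card F : ZMod (p ^ 1)) D8.V₁) (vec chevE8 8 s₁) = 1 := by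
      rw [lam_vv, D8.h11]
      exact ev_one
    rw [h0] at h3
    apply one_ne_zero (α := ZMod (p ^ 1))
    rw [← h3]
    unfold lam
    simp
  have key := H76.KJ.kJ_of_elt_add hp2 hM _ L.ord 8 4 L.fus L.rank _ (orderOf_up H hm hV hz0)
    (not_conj_pow H hm hVB hV (n := 8) (by
      refine (Finset.card_le_card fun s hs => ?_).trans D8.cardV
      rw [Finset.mem_filter] at hs ⊢
      refine ⟨hs.1, fun h3 => ?_⟩
      rw [lam_vv] at hs
      exact (isUnit_of_okU one_ne_zero (by omega) hq1 h3).ne_zero hs.2) (by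
      refine D8.cardB.trans_le (Finset.card_le_card fun s hs => ?_)
      rw [Finset.mem_filter] at hs ⊢
      refine ⟨hs.1, ?_⟩
      rw [lam_vv, hs.2]
      exact ev_zero))
  obtain ⟨t, ht⟩ := h8
  rw [ht, Nat.mul_div_cancel_left _ (by norm_num)] at key
  omega

theorem not_dvd12 (h12 : 12 ∣ p - 1) {L : List ℕ} (hL : ∀ x ∈ L, x.Prime) (hL' : ∀ x ∈ L, ¬ 12 ∣ x - 1) :
    ¬ p ∣ L.prod := fun hn => hL' p (dvd_cases hL hn) h12

/-- the two lines for `d = 12` -/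
theorem D12.not_ms {m : ℕ} (hm : m ≠ 0) (h12 : 12 ∣ p - 1) (hp2 : p ≠ 2) {q : ZMod (p ^ m)}
    (hq : q ^ 4 = ev q (-1, 0, 1, 0)) {i j : ℕ} (hi : ¬ p ∣ i) (hj : ¬ p ∣ j)
    (h : ms chevE8 8 (fun n : Fin 8 => (i : ZMod (p ^ m)) * vv q H682.KB.D12.B n) =
      ms chevE8 8 (fun n : Fin 8 => (j : ZMod (p ^ m)) * vv q H682.KB.D12.B' n)) : False := by
  have e1 := pow_eq_of_ms hq hp2 tab8 len8 (K := [true, true, false, false]) (by decide) h
  have e2 := pow_eq_of_ms hq hp2 tab8 len8 (K := [true, true, false, false, false]) (by decide) h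
  rw [H682.KB.D12.ps12, H682.KB.D12.ps12', show bv [true, true, false, false] 0 = 12 from rfl] at e1
  rw [H682.KB.D12.ps24, H682.KB.D12.ps24', show bv [true, true, false, false, false] 0 = 24 from rfl] at e2
  have hu := isUnit_ev hm hq H682.KB.D12.ctx (by
    rw [Int.natCast_dvd]
    exact not_dvd12 h12
      (L := [2, 2, 2, 2, 2, 2, 2, 2, 2, 2, 2, 2, 2, 3, 3, 3, 3, 3, 3, 3, 3, 5, 5, 5, 7, 7, 7, 11, 19, 199])
      (by norm_num only [List.mem_cons, List.not_mem_nil, or_false, or_self_left, forall_eq_or_imp, forall_eq, and_self]) (by decide))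
  rw [ev_add, ev_sm, ev_mul hq, ev_mul hq, ev_mul hq, ev_mul hq] at hu
  have hui : IsUnit (i : ZMod (p ^ m)) := by
    have h2 := isUnit_int (p := p) hm (n := (i : ℤ)) (by rwa [Int.natCast_dvd_natCast])
    simpa using h2
  have huj : IsUnit (j : ZMod (p ^ m)) := by
    have h2 := isUnit_int (p := p) hm (n := (j : ℤ)) (by rwa [Int.natCast_dvd_natCast])
    simpa using h2
  have hall := ((hui.pow 24).mul (huj.pow 24)).mul hu
  have : Nontrivial (ZMod (p ^ m)) := by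
    have : Fact (1 < p ^ m) := ⟨Nat.one_lt_pow hm hpp.out.one_lt⟩
    infer_instance
  exact hall.ne_zero (cross e1 e2)

/-- **`d = 12`** -/
theorem x0_D12 (hM : IsPModular p Mx) (h11 : 11 ≤ p) (hpF : (p : F) ≠ 0)
    (hd : orderOf (Fintype.card F : ZMod p) = 12) (f : ↥(chevE8.group F) ≃* S)
    (h13 : p = 13 → ¬ p ^ 3 ∣ Nat.card S) :
    p + 5 ≤ 2 * x0 p Mx S := by
  obtain ⟨m, hm, hS, hqd⟩ := exists_m h11 hd (by norm_num)
  rw [Nat.card_congr f.toEquiv] at hS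
  have hq := rel12 hm hd hqd
  have hq1 := rel12 one_ne_zero hd (level_one hd)
  have hp2 : p ≠ 2 := by omega
  have h12 : 12 ∣ p - 1 := dvd_sub_one hd (by norm_num)
  obtain ⟨X, H⟩ := exists_mod h11 hpF f m (wd H682.KB.D12.cw)
  have hs : ev (Fintype.card F : ZMod (p ^ m)) (0, 0, 0, 1) = (Fintype.card F : ZMod (p ^ m)) ^ 3 :=
    ev_pow' [true, true] hq (by decide +kernel) rfl
  have hs' : ev (Fintype.card F : ZMod (p ^ m)) (-1, 0, 1, 0) = (Fintype.card F : ZMod (p ^ m)) ^ 4 :=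
    ev_pow' [true, false, false] hq (by decide +kernel) rfl
  have hn : ((Fintype.card F ^ 9 : ℕ) : ZMod (p ^ m)) * ev (Fintype.card F : ZMod (p ^ m)) (0, 0, 0, 1) = 1 := by
    rw [hs, Nat.cast_pow, ← pow_add, hqd]
  have hn' : ((Fintype.card F ^ 8 : ℕ) : ZMod (p ^ m)) * ev (Fintype.card F : ZMod (p ^ m)) (-1, 0, 1, 0) = 1 := by
    rw [hs', Nat.cast_pow, ← pow_add, hqd]
  have ho : orderOf ((Fintype.card F ^ 9 : ℕ) : ZMod p) = 4 := order_cast_pow hd (by norm_num)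
  have ho' : orderOf ((Fintype.card F ^ 8 : ℕ) : ZMod p) = 3 := order_cast_pow hd (by norm_num)
  have L := line_of H hM hm h11 hS H682.KB.D12.cw_ok D12.ld hq hq1 hn (e := 12) (fun i hi h1 => by
    have h3 := pow_eq_mod one_ne_zero hq1 hp2 tab8 len8 (by decide) h1 H682.KB.D12.ct12
      (not_dvd12 h12 (L := [2, 2, 2, 2, 2, 3, 3, 3, 5, 7]) (by norm_num only [_root_.List.mem_cons, _root_.List.not_mem_nil, _root_.or_false, _root_.or_self_left, _root_.forall_eq_or_imp, _root_.forall_eq, _root_.and_self]) (by decide))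
    rw [Nat.cast_one, one_pow] at h3
    exact h3.symm)
  have L' := line_of H hM hm h11 hS H682.KB.D12.cw_ok D12.ld' hq hq1 hn' (e := 12) (fun i hi h1 => by
    have h3 := pow_eq_mod one_ne_zero hq1 hp2 tab8 len8 (by decide) h1 H682.KB.D12.ct12'
      (not_dvd12 h12 (L := [2, 2, 2, 2, 3, 3, 3, 3, 5, 7]) (by norm_num only [_root_.List.mem_cons, _root_.List.not_mem_nil, _root_.or_false, _root_.or_self_left, _root_.forall_eq_or_imp, _root_.forall_eq, _root_.and_self]) (by decide))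
    rw [Nat.cast_one, one_pow] at h3
    exact h3.symm)
  rw [ho] at L
  rw [ho'] at L'
  have h2 := two_le_of H hM hm H682.KB.D12.cw_ok D12.ld hq hn (by
    intro h1
    rw [h1, orderOf_one] at ho
    omega)
  have hB : (vv (Fintype.card F : ZMod (p ^ 1)) H682.KB.D12.B : Fin 8 → ZMod (p ^ 1)) ∈
      Lam e8T' (p ^ 1) (Fintype.card F) (AddEquiv.refl (Fin 8 → ℤ)) (wd H682.KB.D12.cw) :=
    vv_mem (fun j => chain_rep e8T' _ hA H682.KB.D12.cw_ok j) hq1 D12.ld.eb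
  have hB' : (vv (Fintype.card F : ZMod (p ^ 1)) H682.KB.D12.B' : Fin 8 → ZMod (p ^ 1)) ∈
      Lam e8T' (p ^ 1) (Fintype.card F) (AddEquiv.refl (Fin 8 → ℤ)) (wd H682.KB.D12.cw) :=
    vv_mem (fun j => chain_rep e8T' _ hA H682.KB.D12.cw_ok j) hq1 D12.ld'.eb
  have hx0 : x0 p Mx S = kJ p Mx S := by
    apply x0_eq H hM hm h11 hS H682.KB.D12.cw_ok D12.sp hq
    by_cases h : p = 13
    · exact Or.inl (a_eq_one hm (pow_dvd_card H hS H682.KB.D12.cw_ok D12.sp hq) (h13 h))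
    · right
      have h25 : p ≠ 25 := by
        rintro rfl
        exact absurd hpp.out (by norm_num)
      have h37 : 37 ≤ p := by omega
      show 72 * 4 + 14 < p ^ 2
      nlinarith only [h37, h11]
  rw [hx0]
  have key := H76.KJ.kJ_of_two hp2 hM _ _ L.ord L'.ord 12 12 4 3 L.fus L'.fus (fun g i hh => by
    have hpi : ¬ p ∣ i := by
      intro hpi
      have h6 := orderOf_dvd_iff_pow_eq_one.1 (show orderOf (X (up p m (vv (Fintype.card F : ZMod (p ^ 1))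
        H682.KB.D12.B'))) ∣ i by rw [L'.ord]; exact hpi)
      rw [h6, mul_inv_eq_one, mul_eq_left] at hh
      have h3 := L.ord
      rw [hh, orderOf_one] at h3
      exact hpp.out.one_lt.ne h3
    have h3 := X_nsmul (H.down hm) hB' i
    have h4 : IsConj (X (up p m (vv (Fintype.card F : ZMod (p ^ 1)) H682.KB.D12.B)))
        (X (up p m ((i : ZMod (p ^ 1)) • vv (Fintype.card F : ZMod (p ^ 1)) H682.KB.D12.B'))) := by
      rw [isConj_iff]
      exact ⟨g, by rw [hh]; exact h3.symm⟩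
    have h5 := ms_of_conj (H.down hm) hB (Lam.smul e8T' (i : ZMod (p ^ 1)) hB') h4
    refine D12.not_ms one_ne_zero h12 hp2 hq1 (i := 1) (j := i) (fun h => ?_) hpi ?_
    · exact hpp.out.one_lt.ne (Nat.dvd_one.1 h).symm
    · rw [show (fun n : Fin 8 => ((1 : ℕ) : ZMod (p ^ 1)) * vv (Fintype.card F : ZMod (p ^ 1)) H682.KB.D12.B n) =
        vv (Fintype.card F : ZMod (p ^ 1)) H682.KB.D12.B from funext fun n => by rw [Nat.cast_one, one_mul]]
      exact h5) L.rank L'.rank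
  obtain ⟨t, ht⟩ := h12
  rw [ht, Nat.mul_div_cancel_left _ (by norm_num)] at key
  omega

end Cfsg.Agent.H208.XR
end
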